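import Groth.Agent.EtPBC63.ConstrColim
import Groth.Agent.EtLC12.QcqsAcyclic
import Mathlib.GroupTheory.FreeAbelianGroup
import Mathlib.Algebra.FreeAbelianGroup.Finsupp

/-! injective sheaves are divisible; embedding torsion sheaves into acyclic torsion sheaves -/

universe u

open CategoryTheory CategoryTheory.Limits AlgebraicGeometry Opposite CategoryTheory.Abelian

namespace Groth.Agent.EtPBC63

open Groth.Agent.EtFound

set_option backward.isDefEq.respectTransparency.types false

variable {X : Scheme.{u}}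

theorem exists_nsmul_eq_of_injective (I : EtCoh.Ab X) [Injective I] {n : ℕ} (hn : n ≠ 0) (U : X.Etale)
    (s : I.obj.obj (op U)) : ∃ t : I.obj.obj (op U), n • t = s := by
  haveI : Injective I.obj :=
    Injective.injective_of_adjoint (sheafificationAdjunction X.smallEtaleTopology AddCommGrpCat.{u + 1}) I
  let P : X.Etaleᵒᵖ ⥤ AddCommGrpCat.{u + 1} := yoneda.obj U ⋙ uliftFunctor.{u + 1} ⋙ AddCommGrpCat.free
  let a : P ⟶ I.obj :=
    { app := fun V => AddCommGrpCat.ofHom (FreeAbelianGroup.lift fun f => I.obj.map f.down.op s)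
      naturality := fun V W g => by
        refine AddCommGrpCat.hom_ext (FreeAbelianGroup.lift_ext _ _ fun f => ?_)
        exact (FreeAbelianGroup.lift_apply_of _ _).trans ((Functor.map_comp_apply I.obj f.down.op g s).trans
          (congrArg (I.obj.map g) (FreeAbelianGroup.lift_apply_of (fun f : ULift.{u + 1} (V.unop ⟶ U) => I.obj.map f.down.op s) f).symm)) }
  let m : P ⟶ P :=
    { app := fun V => AddCommGrpCat.ofHom (nsmulAddMonoidHom n)
      naturality := fun V W g => AddCommGrpCat.hom_ext (AddMonoidHom.ext fun x => (map_nsmul (P.map g).hom n x).symm) }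
  haveI : ∀ V, Mono (m.app V) := fun V => (AddCommGrpCat.mono_iff_injective _).2 fun x y h => by
    have e := FreeAbelianGroup.equivFinsupp (ULift.{u + 1} (V.unop ⟶ U))
    refine e.injective (smul_right_injective _ hn ?_)
    exact (map_nsmul e n x).symm.trans ((congrArg e h).trans (map_nsmul e n y))
  haveI : Mono m := NatTrans.mono_of_mono_app m
  let b := Injective.factorThru a m
  refine ⟨b.app (op U) (FreeAbelianGroup.of ⟨𝟙 U⟩), ?_⟩
  refine (map_nsmul (b.app (op U)).hom n _).symm.trans ((ConcreteCategory.congr_hom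
    (congrArg (fun q : P ⟶ I.obj => q.app (op U)) (Injective.comp_factorThru a m)) (FreeAbelianGroup.of ⟨𝟙 U⟩)).trans ?_)
  exact (FreeAbelianGroup.lift_apply_of _ _).trans (by rw [op_id, I.obj.map_id]; rfl)

theorem epi_nsmul_of_injective (I : EtCoh.Ab X) [Injective I] {n : ℕ} (hn : n ≠ 0) : Epi (n • 𝟙 I) := by
  haveI : ∀ V, Epi ((n • 𝟙 I).hom.app V) := fun V => (AddCommGrpCat.epi_iff_surjective _).2 fun s => by
    obtain ⟨t, ht⟩ := exists_nsmul_eq_of_injective I hn V.unop s
    exact ⟨t, (nsmul_hom_app (𝟙 I) n V.unop t).trans ht⟩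
  haveI : Epi (n • 𝟙 I).hom := NatTrans.epi_of_epi_app _
  exact (sheafToPresheaf _ _).epi_of_epi_map this

variable [CompactSpace X] [QuasiSeparatedSpace X]

omit [CompactSpace X] [QuasiSeparatedSpace X] in
/-- the `n`-torsion of an injective sheaf has no cohomology in positive degrees -/
theorem subsingleton_H_kernel_nsmul (I : EtCoh.Ab X) [Injective I] {n : ℕ} (hn : n ≠ 0) (q : ℕ) :
    Subsingleton (EtCoh.H X (kernel (n • 𝟙 I)) (q + 1)) := by
  let S := ShortComplex.mk (kernel.ι (n • 𝟙 I)) (n • 𝟙 I) (kernel.condition _)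
  haveI : Epi S.g := epi_nsmul_of_injective I hn
  have hS : S.ShortExact := { exact := ShortComplex.exact_of_f_is_kernel _ (kernelIsKernel _) }
  haveI : Injective S.X₂ := ‹Injective I›
  haveI : Injective S.X₃ := ‹Injective I›
  refine subsingleton_of_forall_eq 0 fun x => ?_
  obtain ⟨z, rfl⟩ := Ext.covariant_sequence_exact₁ _ hS x (Ext.eq_zero_of_injective _) (rfl : q + 1 = q + 1)
  cases q with
  | succ q => rw [Ext.eq_zero_of_injective z, Ext.zero_comp]
  | zero =>
    obtain ⟨φ, rfl⟩ := (Ext.mk₀_bijective _ _).2 z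
    let adj := constantSheafAdj X.smallEtaleTopology AddCommGrpCat.{u + 1} (topIsTerminal X)
    obtain ⟨a, ha⟩ := exists_nsmul_eq_of_injective I hn (EtCoh.top X) (adj.homEquiv _ _ φ ⟨1⟩)
    have hφ : (adj.homEquiv _ _).symm ((AddCommGrpCat.uliftZMultiplesAddEquiv _).symm a) ≫ S.g = φ := by
      apply (adj.homEquiv _ _).injective
      rw [Adjunction.homEquiv_naturality_right, Equiv.apply_symm_apply]
      apply (AddCommGrpCat.uliftZMultiplesAddEquiv _).injective
      refine Eq.trans ?_ ha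
      refine (congrArg (S.g.hom.app (op (EtCoh.top X))) ((AddCommGrpCat.uliftZMultiplesAddEquiv _).apply_symm_apply a)).trans ?_
      exact nsmul_hom_app (𝟙 I) n (EtCoh.top X) a
    rw [← hφ, ← Ext.mk₀_comp_mk₀, Ext.comp_assoc_of_second_deg_zero, hS.comp_extClass, Ext.comp_zero]

omit [CompactSpace X] [QuasiSeparatedSpace X] in
theorem killedBy_kernel_nsmul (I : EtCoh.Ab X) (n : ℕ) : n • 𝟙 (kernel (n • 𝟙 I)) = 0 := by
  rw [← cancel_mono (kernel.ι (n • 𝟙 I)), zero_comp, Preadditive.nsmul_comp, Category.id_comp]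
  exact ((Preadditive.comp_nsmul _ _ _).trans (congrArg (n • ·) (Category.comp_id _))).symm.trans (kernel.condition _)

omit [CompactSpace X] [QuasiSeparatedSpace X] in
theorem isTorsion_of_nsmul {F : EtCoh.Ab X} {n : ℕ} (hn : 0 < n) (h : n • 𝟙 F = 0) : EtCoh.IsTorsion F :=
  fun U s x => ⟨U, 𝟙 U, ⟨x, rfl⟩, isOfFinAddOrder_iff_nsmul_eq_zero.2 ⟨n, hn, (killedBy_iff_nsmul n F).2 h U _⟩⟩

/-- a compact sheaf mapping to a filtered colimit: classes vanishing in the colimit vanish at a stage -/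
theorem exists_efface (F : EtCoh.Ab X) (hF : EtPBC.IsConstructible F) (q : ℕ) (α : EtCoh.H X F (q + 1)) :
    ∃ (G : EtCoh.Ab X) (v : F ⟶ G), EtPBC.IsConstructible G ∧ Mono v ∧ (EtCoh.HF X (q + 1)).map v α = 0 := by
  obtain ⟨n, hn, hFn⟩ := exists_killedBy X hF
  let I := Injective.under F
  let ι : F ⟶ kernel (n • 𝟙 I) := kernel.lift _ (Injective.ι F) (by
    rw [Preadditive.comp_nsmul, Category.comp_id, ← Category.id_comp (Injective.ι F), ← Preadditive.nsmul_comp, hFn, zero_comp])
  haveI : Mono ι := mono_of_mono_fac (kernel.lift_ι _ _ _)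
  haveI : Injective I := inferInstanceAs (Injective (Injective.under F))
  haveI := subsingleton_H_kernel_nsmul I hn.ne' q
  obtain ⟨J, _, _, D, c, hc, ⟨e⟩, hD⟩ :=
    exists_colimit_constructible (kernel (n • 𝟙 I)) (isTorsion_of_nsmul hn (killedBy_kernel_nsmul I n))
  obtain ⟨i, b, hb⟩ := exists_factor hc e (isCpt_of_isConstructible hF) ι
  haveI := EtLC12.QcqsAcyclic.preservesColimitsOfShape_HF X (q + 1) J
  have hl := isColimitOfPreserves (EtCoh.HF X (q + 1)) hc
  let β := (EtCoh.HF X (q + 1)).map b α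
  have he : Function.Injective ((EtCoh.HF X (q + 1)).map e.hom) := ((EtCoh.HF X (q + 1)).mapIso e).addCommGroupIsoToAddEquiv.injective
  have h0 : (EtCoh.HF X (q + 1)).map (c.ι.app i) β = (EtCoh.HF X (q + 1)).map (c.ι.app i) 0 := by
    apply he
    exact Subsingleton.elim (α := EtCoh.H X (kernel (n • 𝟙 I)) (q + 1)) _ _
  obtain ⟨k, f, g, hfg⟩ := Concrete.isColimit_exists_of_rep_eq _ hl β 0 h0
  refine ⟨D.obj k, b ≫ D.map f, hD k, ?_, ?_⟩
  · have hm : (b ≫ D.map f) ≫ (c.ι.app k ≫ e.hom) = ι := by rw [Category.assoc, c.w_assoc, hb]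
    exact mono_of_mono_fac hm
  · rw [Functor.map_comp, ConcreteCategory.comp_apply]
    exact hfg.trans (map_zero _)

/-- cohomology of torsion sheaves is torsion -/
theorem isAddTorsion_H (F : EtCoh.Ab X) (hF : EtCoh.IsTorsion F) (n : ℕ) : IsAddTorsion (EtCoh.H X F n) := by
  refine fun x => ?_
  obtain ⟨J, _, _, D, c, hc, ⟨e⟩, hD⟩ := exists_colimit_constructible F hF
  haveI := EtLC12.QcqsAcyclic.preservesColimitsOfShape_HF X n J
  obtain ⟨j, y, hy⟩ := Concrete.isColimit_exists_rep _ (isColimitOfPreserves (EtCoh.HF X n) hc)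
    ((EtCoh.HF X n).map e.inv x)
  obtain ⟨m, hm, hjm⟩ := exists_killedBy X (hD j)
  have hy0 : m • y = 0 := by
    let Φ := AddMonoidHom.mk' (fun a : D.obj j ⟶ D.obj j => Sheaf.H.map a n y) fun a b => Sheaf.H.map_add_apply a b y
    refine Eq.trans ?_ ((congrArg Φ hjm).trans (map_zero Φ))
    rw [map_nsmul]
    exact congrArg (m • ·) (Sheaf.H.map_id_apply y).symm
  refine isOfFinAddOrder_iff_nsmul_eq_zero.2 ⟨m, hm, ?_⟩
  have hx : x = (EtCoh.HF X n).map (c.ι.app j ≫ e.hom) y := by
    rw [Functor.map_comp, ConcreteCategory.comp_apply]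
    refine Eq.trans ?_ (congrArg ((EtCoh.HF X n).map e.hom) hy).symm
    exact ((EtCoh.HF X n).mapIso e).addCommGroupIsoToAddEquiv.apply_symm_apply x |>.symm
  rw [hx]
  exact (map_nsmul ((EtCoh.HF X n).map (c.ι.app j ≫ e.hom)).hom m y).symm.trans ((congrArg _ hy0).trans (map_zero _))

end Groth.Agent.EtPBC63
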