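import Groth.Agent.EtFound.CompactObj
import Groth.Agent.EtFound.PushOutside

/-! maps out of extensions by zero of cyclic groups, and supports -/

universe u

open CategoryTheory CategoryTheory.Limits AlgebraicGeometry Opposite
open scoped ZeroObject

namespace Groth.Agent.EtPBC63

open Groth.Agent.EtFound

set_option backward.isDefEq.respectTransparency.types false

variable {X : Scheme.{u}}

/-- the tautological section of `j_!(ℤ/n)` -/
noncomputable def one (U : X.Etale) (n : ℕ) : (EtPBC.extZeroConst U (ZMod n)).obj.obj (op U) :=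
  taut U (ZMod n) ⟨1⟩

theorem nsmul_one' (U : X.Etale) (n : ℕ) : n • one U n = 0 := by
  rw [one, ← map_nsmul, show n • (⟨1⟩ : ULift.{u + 1} (ZMod n)) = 0 from ULift.ext _ _ (by simp)]
  exact map_zero _

theorem hom_ext_one {U : X.Etale} {n : ℕ} {F : EtCoh.Ab X} (h h' : EtPBC.extZeroConst U (ZMod n) ⟶ F)
    (e : h.hom.app (op U) (one U n) = h'.hom.app (op U) (one U n)) : h = h' := by
  refine hom_ext_taut _ _ (AddCommGrpCat.ext fun m => ?_)
  obtain ⟨k, hk⟩ := ZMod.intCast_surjective m.down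
  obtain rfl : m = k • (⟨1⟩ : ULift.{u + 1} (ZMod n)) := ULift.ext _ _ (by simp [← hk])
  simp only [map_zsmul]
  exact congrArg (k • ·) e

theorem exists_hom_of_nsmul {U : X.Etale} {n : ℕ} {F : EtCoh.Ab X} (s : F.obj.obj (op U)) (hs : n • s = 0) :
    ∃ h : EtPBC.extZeroConst U (ZMod n) ⟶ F, h.hom.app (op U) (one U n) = s := by
  let L : ZMod n →+ F.obj.obj (op U) := ZMod.lift n ⟨zmultiplesHom _ s, by simpa [natCast_zsmul] using hs⟩
  obtain ⟨h, hh⟩ := exists_hom_taut (M := ZMod n) (U := U) (F := F) (AddCommGrpCat.ofHom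
    (L.comp (AddEquiv.ulift : ULift.{u + 1} (ZMod n) ≃+ ZMod n).toAddMonoidHom))
  refine ⟨h, (ConcreteCategory.congr_hom hh (⟨1⟩ : ULift.{u + 1} (ZMod n))).trans ?_⟩
  have hL : L 1 = (1 : ℤ) • s := (congrArg L (Int.cast_one (R := ZMod n)).symm).trans (ZMod.lift_coe n _ 1)
  exact hL.trans (one_zsmul s)

variable {Ω : Type u} [Field Ω] [IsSepClosed Ω] {ξ : Spec (CommRingCat.of Ω) ⟶ X}

theorem stalk_map_germ {F G : EtCoh.Ab X} (a : F ⟶ G) (U : X.Etale)
    (x : (Scheme.pointSmallEtale ξ).fiber.obj U) (s : F.obj.obj (op U)) :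
    (EtCoh.stalk ξ).map a ((Scheme.pointSmallEtale ξ).toPresheafFiber U x F.obj s) =
      (Scheme.pointSmallEtale ξ).toPresheafFiber U x G.obj (a.hom.app (op U) s) :=
  (Scheme.pointSmallEtale ξ).toPresheafFiber_naturality_apply a.hom U x s

/-- a map out of `j_!(ℤ/n)` vanishes on a stalk if it kills the tautological germs -/
theorem stalk_map_eq_zero {U : X.Etale} {n : ℕ} {G : EtCoh.Ab X} (a : EtPBC.extZeroConst U (ZMod n) ⟶ G)
    (h : ∀ x : (Scheme.pointSmallEtale ξ).fiber.obj U,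
      (Scheme.pointSmallEtale ξ).toPresheafFiber U x G.obj (a.hom.app (op U) (one U n)) = 0) :
    (EtCoh.stalk ξ).map a = 0 := by
  let Φ := Scheme.pointSmallEtale ξ
  let adj := Φ.skyscraperSheafAdjunction (A := AddCommGrpCat.{u + 1})
  apply (adj.homEquiv (EtPBC.extZeroConst U (ZMod n)) ((EtCoh.stalk ξ).obj G)).injective
  refine hom_ext_one _ _ ?_
  have key : ∀ ψ : (EtCoh.stalk ξ).obj (EtPBC.extZeroConst U (ZMod n)) ⟶ (EtCoh.stalk ξ).obj G, ∀ x,
      Pi.π (fun _ : Φ.fiber.obj U => (EtCoh.stalk ξ).obj G) x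
          ((adj.homEquiv _ _ ψ).hom.app (op U) (one U n)) =
        ψ (Φ.toPresheafFiber U x (EtPBC.extZeroConst U (ZMod n)).obj (one U n)) := fun ψ x =>
    ConcreteCategory.congr_hom ((congrArg (fun g => NatTrans.app g (op U) ≫ Pi.π _ x)
      (Φ.skyscraperSheafAdjunction_homEquiv_apply_hom ψ)).trans (Φ.skyscraperPresheafHomEquiv_app_π ψ U x)) (one U n)
  refine Concrete.limit_ext _ _ _ fun ⟨x⟩ => ?_
  refine (key _ x).trans (Eq.trans ?_ (key 0 x).symm)
  exact (stalk_map_germ a U x (one U n)).trans (h x)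

theorem exists_affine_nhd (U : X.Etale) (x : (Scheme.pointSmallEtale ξ).fiber.obj U) :
    ∃ (V : X.Etale) (_ : IsAffine V.left) (r : V ⟶ U) (v : (Scheme.pointSmallEtale ξ).fiber.obj V),
      (Scheme.pointSmallEtale ξ).fiber.map r v = x := by
  let p := (x.left : Spec (CommRingCat.of Ω) ⟶ U.left).base (default : Spec (CommRingCat.of Ω))
  obtain ⟨A, hA, hxA, -⟩ := exists_isAffineOpen_mem_and_subset (U := (⊤ : U.left.Opens)) (x := p) trivial
  obtain ⟨v, hv, -⟩ := exists_lift_point (restrictEtaleHom U A) x ⟨p, hxA⟩ rfl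
  exact ⟨restrictEtale U A, hA, restrictEtaleHom U A, v, hv⟩

/-- a germ killed by a map is in the image of a constructible sheaf killed by that map -/
theorem exists_kill [CompactSpace X] [QuasiSeparatedSpace X] {G F : EtCoh.Ab X}
    (hG : EtPBC.IsConstructible G) (h : G ⟶ F) (d : (EtCoh.stalk ξ).obj G) (hd : (EtCoh.stalk ξ).map h d = 0) :
    ∃ (E : EtCoh.Ab X) (_ : EtPBC.IsConstructible E) (e : E ⟶ G) (d' : (EtCoh.stalk ξ).obj E),
      e ≫ h = 0 ∧ (EtCoh.stalk ξ).map e d' = d := by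
  obtain ⟨m, hm, hGm⟩ := exists_killedBy X hG
  haveI : NeZero m := ⟨hm.ne'⟩
  let Φ := Scheme.pointSmallEtale ξ
  obtain ⟨U, x, t, rfl⟩ := Φ.toPresheafFiber_jointly_surjective d
  change G.obj.obj (op U) at t
  replace hd : Φ.toPresheafFiber U x F.obj (h.hom.app (op U) t) = 0 := (stalk_map_germ h U x t).symm.trans hd
  rw [← map_zero (Φ.toPresheafFiber U x F.obj).hom] at hd
  obtain ⟨W, f, w, hw, hf⟩ := (Φ.toPresheafFiber_eq_iff' U x _ _).1 hd
  rw [map_zero] at hf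
  obtain ⟨V, hV, r, v, hv⟩ := exists_affine_nhd W w
  obtain ⟨e, he⟩ := exists_hom_of_nsmul (n := m) (G.obj.map (r ≫ f).op t) ((killedBy_iff_nsmul m G).2 hGm V _)
  refine ⟨_, S0133.result X V (ZMod m), e, Φ.toPresheafFiber V v (EtPBC.extZeroConst V (ZMod m)).obj (one V m), hom_ext_one _ _ ?_, ?_⟩
  · change h.hom.app (op V) (e.hom.app (op V) (one V m)) = 0
    rw [he, NatTrans.naturality_apply h.hom, op_comp, Functor.map_comp_apply, hf, map_zero]
  · rw [stalk_map_germ, he, Φ.toPresheafFiber_w_apply, Functor.map_comp_apply, hv, hw]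
    rfl

/-- germs of a torsion sheaf come from `j_!(ℤ/n)` -/
theorem exists_gen {F : EtCoh.Ab X} (hF : EtCoh.IsTorsion F) (c : (EtCoh.stalk ξ).obj F) :
    ∃ (V : X.Etale) (_ : IsAffine V.left) (v : (Scheme.pointSmallEtale ξ).fiber.obj V) (n : ℕ) (_ : NeZero n)
      (h : EtPBC.extZeroConst V (ZMod n) ⟶ F),
      (Scheme.pointSmallEtale ξ).toPresheafFiber V v F.obj (h.hom.app (op V) (one V n)) = c := by
  let Φ := Scheme.pointSmallEtale ξ
  obtain ⟨U, x, t, rfl⟩ := Φ.toPresheafFiber_jointly_surjective c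
  change F.obj.obj (op U) at t
  obtain ⟨W, g, ⟨q, hq⟩, hfin⟩ := hF U t ((x.left : Spec (CommRingCat.of Ω) ⟶ U.left).base (default : Spec (CommRingCat.of Ω)))
  obtain ⟨w, hw, -⟩ := exists_lift_point g x q hq
  obtain ⟨V, hV, r, v, hv⟩ := exists_affine_nhd W w
  obtain ⟨n, hn, hns⟩ := isOfFinAddOrder_iff_nsmul_eq_zero.1 hfin
  obtain ⟨h, hh⟩ := exists_hom_of_nsmul (n := n) (F.obj.map r.op (F.obj.map g.op t)) (by rw [← map_nsmul, hns, map_zero])
  refine ⟨V, hV, v, n, ⟨hn.ne'⟩, h, ?_⟩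
  rw [hh, Φ.toPresheafFiber_w_apply, hv, Φ.toPresheafFiber_w_apply, hw]
  rfl

/-- support in terms of one geometric point -/
theorem mem_supp_iff {F : EtCoh.Ab X} {Ω : Type u} [Field Ω] [IsSepClosed Ω] (ξ : Spec (CommRingCat.of Ω) ⟶ X) :
    ξ.base (default : Spec (CommRingCat.of Ω)) ∈ EtPBC.supp F ↔ ¬ IsZero ((EtCoh.stalk ξ).obj F) := by
  refine ⟨fun ⟨k, _, _, ζ, hr, hζ⟩ h => hζ ?_, fun h => ⟨Ω, _, _, ξ, range_point ξ, h⟩⟩
  rw [range_point, Set.singleton_eq_singleton_iff] at hr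
  obtain ⟨e⟩ := nonempty_stalk_equiv F ζ ξ hr
  have := AddCommGrpCat.subsingleton_of_isZero h
  exact AddCommGrpCat.isZero_iff_subsingleton.2 e.injective.subsingleton

theorem supp_subset_of_exact {S : ShortComplex (EtCoh.Ab X)} (hS : S.Exact) :
    EtPBC.supp S.X₂ ⊆ EtPBC.supp S.X₁ ∪ EtPBC.supp S.X₃ := by
  intro y hy
  obtain ⟨k, _, _, ζ, rfl⟩ := exists_geomPoint y
  rw [Set.mem_union, mem_supp_iff, mem_supp_iff]
  rw [mem_supp_iff] at hy
  by_contra! h
  exact hy ((hS.map (EtCoh.stalk ζ)).isZero_X₂ ((h.1).eq_of_src _ _) ((h.2).eq_of_tgt _ _))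

theorem supp_eq_empty_of_isZero {F : EtCoh.Ab X} (h : IsZero F) : EtPBC.supp F = ∅ :=
  Set.eq_empty_iff_forall_notMem.2 fun _ ⟨_, _, _, _, _, hξ⟩ => hξ ((EtCoh.stalk _).map_isZero h)

theorem supp_subset_of_mono {F G : EtCoh.Ab X} (f : F ⟶ G) [Mono f] : EtPBC.supp F ⊆ EtPBC.supp G := by
  refine (supp_subset_of_exact (S := ShortComplex.mk (0 : 0 ⟶ F) f zero_comp)
    ((ShortComplex.exact_iff_mono _ rfl).2 ‹Mono f›)).trans ?_
  rw [supp_eq_empty_of_isZero (isZero_zero _), Set.empty_union]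

theorem supp_subset_of_epi {F G : EtCoh.Ab X} (f : F ⟶ G) [Epi f] : EtPBC.supp G ⊆ EtPBC.supp F := by
  refine (supp_subset_of_exact (S := ShortComplex.mk f (0 : G ⟶ 0) comp_zero)
    ((ShortComplex.exact_iff_epi _ rfl).2 ‹Epi f›)).trans ?_
  rw [supp_eq_empty_of_isZero (isZero_zero _), Set.union_empty]

theorem supp_biprod (F G : EtCoh.Ab X) : EtPBC.supp (F ⊞ G) ⊆ EtPBC.supp F ∪ EtPBC.supp G :=
  supp_subset_of_exact (S := ShortComplex.mk (biprod.inl : F ⟶ F ⊞ G) (biprod.snd : F ⊞ G ⟶ G) biprod.inl_snd)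
    (ShortComplex.Splitting.ofHasBinaryBiproduct F G).exact

theorem isConstructible_biprod {F G : EtCoh.Ab X} (hF : EtPBC.IsConstructible F) (hG : EtPBC.IsConstructible G) :
    EtPBC.IsConstructible (F ⊞ G) :=
  isConstructible_of_extension (S := ShortComplex.mk (biprod.inl : F ⟶ F ⊞ G) (biprod.snd : F ⊞ G ⟶ G) biprod.inl_snd)
    (ShortComplex.Splitting.ofHasBinaryBiproduct F G).shortExact hF hG

end Groth.Agent.EtPBC63
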