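import Groth.Agent.EtPBC63.Gabber.Sheaf
import Groth.Agent.EtFound.PullGerm
import Groth.Agent.AlgSpLib.EtLocalInst
import Mathlib.AlgebraicGeometry.Morphisms.UniversallyOpen

/-!
# Sections of a pullback along a flat quasi-compact morphism with connected geometric fibres
-/

universe u

open CategoryTheory CategoryTheory.Limits AlgebraicGeometry Opposite

namespace Groth.Agent.EtPBC63.FlatConn

open EtFound Gabber

set_option backward.isDefEq.respectTransparency.types false

variable {T S : Scheme.{u}} (f : T ⟶ S) [EtCoh.BCCont f] (F : EtCoh.Ab S)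

set_option quotPrecheck false in
local notation "P" => (EtCoh.pull f).obj F

/-- The pullback of a section to the base change. -/
noncomputable def pb (U : S.Etale) (s : F.obj.obj (op U)) : (P).obj.obj (op ((EtCoh.bc f).obj U)) :=
  ((EtCoh.pullPushAdj f).unit.app F).hom.app (op U) s

theorem pb_map {U V : S.Etale} (g : V ⟶ U) (s : F.obj.obj (op U)) :
    pb f F V (F.obj.map g.op s) = (P).obj.map ((EtCoh.bc f).map g).op (pb f F U s) :=
  NatTrans.naturality_apply ((EtCoh.pullPushAdj f).unit.app F).hom g.op s

theorem pb_sub (U : S.Etale) (s s' : F.obj.obj (op U)) : pb f F U (s - s') = pb f F U s - pb f F U s' :=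
  map_sub _ _ _

variable {Ω : Type u} [Field Ω] [IsSepClosed Ω] {ξ : Spec (CommRingCat.of Ω) ⟶ T}

theorem germ_pb (U : S.Etale) (z : (Scheme.pointSmallEtale ξ).fiber.obj ((EtCoh.bc f).obj U))
    (s : F.obj.obj (op U)) :
    (sheafFiberPullIso (A := AddCommGrpCat.{u + 1}) f ξ).inv.app F
        ((Scheme.pointSmallEtale (ξ ≫ f)).toPresheafFiber U (bcFiberEquiv f ξ U z) F.obj s) =
      (Scheme.pointSmallEtale ξ).toPresheafFiber _ z (P).obj (pb f F U s) :=
  ConcreteCategory.congr_hom (sheafFiberPullIso_germ f ξ F U z) s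

theorem germSupp_pb (U : S.Etale) (s : F.obj.obj (op U)) (q : ((EtCoh.bc f).obj U).left) :
    q ∈ germSupp P ((EtCoh.bc f).obj U) (pb f F U s) ↔ (pullback.fst U.hom f).base q ∈ germSupp F U s := by
  obtain ⟨L, _, _, ζ, z, rfl⟩ := exists_algClosed_point ((EtCoh.bc f).obj U) q
  show ptOf z ∈ _ ↔ (pullback.fst U.hom f).base (ptOf z) ∈ _
  rw [← show ptOf (bcFiberEquiv f ζ U z) = (pullback.fst U.hom f).base (ptOf z) from Scheme.Hom.comp_apply _ _ _,
    mem_germSupp_iff, mem_germSupp_iff, ← germ_pb f F U z s]
  have hb : Function.Injective ((sheafFiberPullIso (A := AddCommGrpCat.{u + 1}) f ζ).inv.app F) :=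
    ((ConcreteCategory.isIso_iff_bijective _).mp inferInstance).1
  exact not_congr (map_eq_zero_iff _ hb)

omit [EtCoh.BCCont f] in
theorem bc_fst {U V : S.Etale} (a : V ⟶ U) (x : ((EtCoh.bc f).obj V).left) :
    (pullback.fst U.hom f).base (((EtCoh.bc f).map a).left.base x) =
      a.left.base ((pullback.fst V.hom f).base x) :=
  (Scheme.Hom.comp_apply ((EtCoh.bc f).map a).left (pullback.fst U.hom f) x).symm.trans
    ((congrArg (fun (g : ((EtCoh.bc f).obj V).left ⟶ U.left) => g.base x) (pullback.lift_fst _ _ _)).trans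
      (Scheme.Hom.comp_apply _ _ _))

theorem cc_image {X Y : Scheme.{u}} (g : X ⟶ Y) [CompactSpace X] [IsAffine Y] {E : Set X} (hE : IsClosed E) :
    SpecLib.CC (g.base '' E) := by
  classical
  have hloc : ∀ x : X, ∃ W : X.Opens, IsAffineOpen W ∧ x ∈ W := fun x => by
    obtain ⟨W, hW, hx, -⟩ := TopologicalSpace.Opens.isBasis_iff_nbhd.mp X.isBasis_affineOpens
      (TopologicalSpace.Opens.mem_top x)
    exact ⟨W, hW, hx⟩
  choose W hW hxW using hloc
  obtain ⟨t, ht⟩ := isCompact_univ.elim_finite_subcover (fun x => (W x : Set X)) (fun x => (W x).isOpen)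
    fun x _ => Set.mem_iUnion.mpr ⟨x, hxW x⟩
  haveI : SpectralSpace Y := {}
  have key : ∀ x, SpecLib.CC (g.base '' (E ∩ W x)) := fun x => by
    haveI : IsAffine (W x : Scheme.{u}) := hW x
    haveI : SpectralSpace (W x : Scheme.{u}) := {}
    haveI : QuasiCompact ((W x).ι ≫ g) := quasiCompact_of_compactSpace _
    have h := SpecLib.CC.image (Scheme.Hom.isSpectralMap ((W x).ι ≫ g))
      (SpecLib.cc_of_isClosed (hE.preimage (W x).ι.continuous))
    convert h using 1
    ext y
    constructor
    · rintro ⟨a, ⟨haE, haW⟩, rfl⟩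
      exact ⟨⟨a, haW⟩, haE, rfl⟩
    · rintro ⟨a, ha, rfl⟩
      exact ⟨(W x).ι a, ⟨ha, a.2⟩, rfl⟩
  have hu : ∀ u : Finset X, SpecLib.CC (⋃ x ∈ u, g.base '' (E ∩ W x)) := fun u => by
    induction u using Finset.induction with
    | empty => simpa using SpecLib.cc_of_isClosed isClosed_empty
    | insert a u _ ih => rw [Finset.set_biUnion_insert]; exact (key a).union ih
  convert hu t using 1
  ext y
  constructor
  · rintro ⟨a, ha, rfl⟩
    obtain ⟨x, hx, hax⟩ := Set.mem_iUnion₂.mp (ht (Set.mem_univ a))
    exact Set.mem_iUnion₂.mpr ⟨x, hx, a, ⟨ha, hax⟩, rfl⟩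
  · intro hy
    obtain ⟨x, -, a, ⟨ha, -⟩, rfl⟩ := Set.mem_iUnion₂.mp hy
    exact ⟨a, ha, rfl⟩

variable [Flat f] [QuasiCompact f]
  (hc : ∀ (K : Type u) [Field K] [IsAlgClosed K] (s : Spec (CommRingCat.of K) ⟶ S), ConnectedSpace ↥(pullback f s))

include hc

omit [EtCoh.BCCont f] [Flat f] [QuasiCompact f] in
theorem fibre_connected (U : S.Etale) (v : U.left) :
    _root_.IsConnected ((pullback.fst U.hom f).base ⁻¹' {v}) := by
  obtain ⟨K, _, _, ξ, z, hz⟩ := exists_algClosed_point U v
  haveI := hc K ξ
  let zl : Spec (CommRingCat.of K) ⟶ U.left := z.left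
  have hzl : zl ≫ U.hom = ξ := CategoryTheory.Over.w z
  let φ : pullback f ξ ⟶ pullback U.hom f := pullback.lift (pullback.snd f ξ ≫ zl) (pullback.fst f ξ)
    (by rw [Category.assoc, hzl, pullback.condition])
  have hr : Set.range φ.base = (pullback.fst U.hom f).base ⁻¹' {v} := by
    refine Set.Subset.antisymm ?_ fun q hq => ?_
    · rintro _ ⟨p, rfl⟩
      rw [Set.mem_preimage, Set.mem_singleton_iff, ← Scheme.Hom.comp_apply, pullback.lift_fst,
        Scheme.Hom.comp_apply, Subsingleton.elim ((pullback.snd f ξ).base p) default]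
      exact hz
    · obtain ⟨p, hp, -⟩ := Scheme.Pullback.exists_preimage_pullback (f := pullback.fst U.hom f) (g := zl) q
        (default : Spec (CommRingCat.of K)) (hq.trans hz.symm)
      let ψ : pullback (pullback.fst U.hom f) zl ⟶ pullback f ξ :=
        pullback.lift (pullback.fst _ _ ≫ pullback.snd U.hom f) (pullback.snd _ _) (by
          rw [Category.assoc, ← pullback.condition (f := U.hom) (g := f),
            reassoc_of% (pullback.condition (f := pullback.fst U.hom f) (g := zl)), hzl])
      have he : ψ ≫ φ = pullback.fst _ _ := by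
        apply pullback.hom_ext
        · simp only [φ, ψ, Category.assoc, pullback.lift_fst, pullback.lift_snd_assoc]
          exact pullback.condition.symm
        · simp only [φ, ψ, Category.assoc, pullback.lift_snd, pullback.lift_fst]
      exact ⟨ψ p, (Scheme.Hom.comp_apply ψ φ p).symm.trans ((congr($he p)).trans hp)⟩
  rw [← hr]
  exact isConnected_range φ.continuous

omit [EtCoh.BCCont f] [Flat f] [QuasiCompact f] in
theorem surjective_fst (U : S.Etale) (v : U.left) : ∃ q, (pullback.fst U.hom f).base q = v :=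
  (fibre_connected f hc U v).nonempty

theorem bijective_unit :
    Function.Bijective (((EtCoh.pullPushAdj f).unit.app F).hom.app (op (EtCoh.top S))) := by
  classical
  have htop : ∀ {U : S.Etale} (a b : U ⟶ EtCoh.top S), a = b := fun a b =>
    (EtCore.topIsTerminal S).hom_ext a b
  have hinj : ∀ (U : S.Etale) (s s' : F.obj.obj (op U)), pb f F U s = pb f F U s' → s = s' := by
    intro U s s' h
    rw [← sub_eq_zero]
    refine eq_zero_of_germSupp _ (Set.eq_empty_of_forall_notMem fun v hv => ?_)
    obtain ⟨q, rfl⟩ := surjective_fst f hc U v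
    have h' := (germSupp_pb f F U _ q).mpr hv
    rw [pb_sub, h, sub_self] at h'
    exact germSupp_zero _ _ _ h'
  refine ⟨fun s s' h => hinj _ s s' h, fun t => ?_⟩
  let tU : ∀ U : S.Etale, (P).obj.obj (op ((EtCoh.bc f).obj U)) := fun U =>
    (P).obj.map ((EtCoh.bc f).map ((EtCore.topIsTerminal S).from U)).op t
  have htU : ∀ {U V : S.Etale} (g : V ⟶ U), (P).obj.map ((EtCoh.bc f).map g).op (tU U) = tU V := by
    intro U V g
    show (P).obj.map _ ((P).obj.map _ t) = _
    rw [← Functor.map_comp_apply, ← op_comp, ← Functor.map_comp, htop (g ≫ _) ((EtCore.topIsTerminal S).from V)]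
  let D : ∀ (U : S.Etale) (s : F.obj.obj (op U)), Set ((EtCoh.bc f).obj U).left := fun U s =>
    germSupp P _ (pb f F U s - tU U)
  have hDmap : ∀ {U V : S.Etale} (g : V ⟶ U) (s : F.obj.obj (op U)) (q : ((EtCoh.bc f).obj V).left),
      q ∈ D V (F.obj.map g.op s) ↔ ((EtCoh.bc f).map g).left.base q ∈ D U s := by
    intro U V g s q
    refine Iff.trans ?_ (germSupp_map ((EtCoh.bc f).map g) _ q)
    rw [map_sub, ← pb_map, htU]
  -- every point has an agreeing local section
  have hpoint : ∀ q₀ : ((EtCoh.bc f).obj (EtCoh.top S)).left, ∃ (U : S.Etale) (_ : IsAffine U.left)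
      (s : F.obj.obj (op U)) (q : ((EtCoh.bc f).obj U).left),
      ((EtCoh.bc f).map ((EtCore.topIsTerminal S).from U)).left.base q = q₀ ∧ q ∉ D U s := by
    intro q₀
    obtain ⟨K, _, _, ζ, z₀, rfl⟩ := exists_algClosed_point ((EtCoh.bc f).obj (EtCoh.top S)) q₀
    let Φ := Scheme.pointSmallEtale (ζ ≫ f)
    obtain ⟨c, hc'⟩ := ((ConcreteCategory.isIso_iff_bijective
      ((sheafFiberPullIso (A := AddCommGrpCat.{u + 1}) f ζ).inv.app F)).mp inferInstance).2
      ((Scheme.pointSmallEtale ζ).toPresheafFiber _ z₀ (P).obj t)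
    obtain ⟨U₀, u₀, s₀, rfl⟩ := Φ.toPresheafFiber_jointly_surjective c
    obtain ⟨U, hU, r, u, hu⟩ := exists_affine_nhd U₀ u₀
    let z := (bcFiberEquiv f ζ U).symm u
    have hz : bcFiberEquiv f ζ U z = u := Equiv.apply_symm_apply _ _
    have hz₀ : (Scheme.pointSmallEtale ζ).fiber.map ((EtCoh.bc f).map ((EtCore.topIsTerminal S).from U)) z = z₀ :=
      (bcFiberEquiv f ζ (EtCoh.top S)).injective (CategoryTheory.Over.OverMorphism.ext
        (((Category.comp_id _).symm.trans (CategoryTheory.Over.w _)).trans
          ((Category.comp_id _).symm.trans (CategoryTheory.Over.w _)).symm))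
    refine ⟨U, hU, F.obj.map r.op s₀, ptOf z, (ptOf_map _ z).symm.trans (congrArg ptOf hz₀), fun hq => ?_⟩
    refine (mem_germSupp_iff _ z).mp hq ?_
    have e1 : (Scheme.pointSmallEtale ζ).toPresheafFiber _ z (P).obj (pb f F U (F.obj.map r.op s₀)) =
        (Scheme.pointSmallEtale ζ).toPresheafFiber _ z (P).obj (tU U) := by
      rw [← germ_pb f F U z, hz, Φ.toPresheafFiber_w_apply r u F.obj s₀, hu]
      refine hc'.trans ?_
      rw [(Scheme.pointSmallEtale ζ).toPresheafFiber_w_apply, hz₀]
    rw [map_sub, e1, sub_self]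
  -- agreement at one point of a fibre propagates to the fibre
  have hall : ∀ (U : S.Etale) (s : F.obj.obj (op U)) (q₀ q₁ : ((EtCoh.bc f).obj U).left),
      (pullback.fst U.hom f).base q₀ = (pullback.fst U.hom f).base q₁ → q₀ ∉ D U s → q₁ ∉ D U s := by
    intro U s q₀ q₁ he hq₀
    have hopenD : ∀ q ∈ D U s, ∃ N : Set ((EtCoh.bc f).obj U).left, IsOpen N ∧ q ∈ N ∧
        ∀ q' ∈ N, (pullback.fst U.hom f).base q' = (pullback.fst U.hom f).base q → q' ∈ D U s := by
      intro q hq
      obtain ⟨W, -, σ, w, hw, hwD⟩ := hpoint (((EtCoh.bc f).map ((EtCore.topIsTerminal S).from U)).left.base q)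
      -- a common refinement of `U` and `W`
      haveI := U.prop
      haveI := W.prop
      haveI : Etale (pullback.fst U.hom W.hom ≫ U.hom) := inferInstance
      let V : S.Etale := Scheme.Etale.mk (pullback.fst U.hom W.hom ≫ U.hom)
      let a : V ⟶ U := MorphismProperty.Over.homMk (pullback.fst U.hom W.hom) rfl trivial
      let b : V ⟶ W := MorphismProperty.Over.homMk (pullback.snd U.hom W.hom) pullback.condition.symm trivial
      let q' : ↥(pullback U.hom f) := q
      let w' : ↥(pullback W.hom f) := w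
      obtain ⟨p, hp₁, hp₂⟩ : ∃ p : ↥(pullback (pullback.snd U.hom f) (pullback.snd W.hom f)),
          (pullback.fst (pullback.snd U.hom f) (pullback.snd W.hom f)).base p = q' ∧ (pullback.snd (pullback.snd U.hom f) (pullback.snd W.hom f)).base p = w' := by
        refine Scheme.Pullback.exists_preimage_pullback q' w' ?_
        have e1 := congr($(MorphismProperty.Over.w ((EtCoh.bc f).map ((EtCore.topIsTerminal S).from U))) q)
        have e2 := congr($(MorphismProperty.Over.w ((EtCoh.bc f).map ((EtCore.topIsTerminal S).from W))) w)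
        rw [Scheme.Hom.comp_apply] at e1 e2
        exact e1.symm.trans ((congrArg _ hw.symm).trans e2)
      let φ : pullback (pullback.snd U.hom f) (pullback.snd W.hom f) ⟶ pullback V.hom f :=
        pullback.lift (pullback.lift (pullback.fst _ _ ≫ pullback.fst U.hom f)
            (pullback.snd _ _ ≫ pullback.fst W.hom f) (by
              simp only [Category.assoc, pullback.condition (f := U.hom) (g := f),
                pullback.condition (f := W.hom) (g := f)]
              rw [reassoc_of% (pullback.condition (f := pullback.snd U.hom f) (g := pullback.snd W.hom f))]))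
          (pullback.fst _ _ ≫ pullback.snd U.hom f) (by
            show _ ≫ pullback.fst U.hom W.hom ≫ U.hom = _
            rw [pullback.lift_fst_assoc, Category.assoc, Category.assoc, pullback.condition])
      let Q : ((EtCoh.bc f).obj V).left := φ.base p
      have ha : ((EtCoh.bc f).map a).left.base Q = q := by
        have e : φ ≫ ((EtCoh.bc f).map a).left = pullback.fst _ _ := by
          apply pullback.hom_ext
          · show (φ ≫ pullback.map V.hom f U.hom f a.left (𝟙 T) (𝟙 S)
              ((Category.comp_id _).trans (MorphismProperty.Over.w a).symm) ((Category.comp_id _).trans (Category.id_comp _).symm)) ≫ pullback.fst U.hom f = _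
            simp only [φ, a, Category.assoc, pullback.lift_fst,
              pullback.lift_fst_assoc]
            exact pullback.lift_fst _ _ _
          · show (φ ≫ pullback.map V.hom f U.hom f a.left (𝟙 T) (𝟙 S)
              ((Category.comp_id _).trans (MorphismProperty.Over.w a).symm) ((Category.comp_id _).trans (Category.id_comp _).symm)) ≫ pullback.snd U.hom f = _
            simp only [φ, Category.assoc, pullback.lift_snd, Category.comp_id]
        exact (Scheme.Hom.comp_apply _ _ p).symm.trans ((congr($e p)).trans hp₁)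
      have hb : ((EtCoh.bc f).map b).left.base Q = w := by
        have e : φ ≫ ((EtCoh.bc f).map b).left = pullback.snd _ _ := by
          apply pullback.hom_ext
          · show (φ ≫ pullback.map V.hom f W.hom f b.left (𝟙 T) (𝟙 S)
              ((Category.comp_id _).trans (MorphismProperty.Over.w b).symm) ((Category.comp_id _).trans (Category.id_comp _).symm)) ≫ pullback.fst W.hom f = _
            simp only [φ, b, Category.assoc, pullback.lift_fst,
              pullback.lift_fst_assoc, pullback.lift_snd]
            exact pullback.lift_snd _ _ _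
          · show (φ ≫ pullback.map V.hom f W.hom f b.left (𝟙 T) (𝟙 S)
              ((Category.comp_id _).trans (MorphismProperty.Over.w b).symm) ((Category.comp_id _).trans (Category.id_comp _).symm)) ≫ pullback.snd W.hom f = _
            simp only [φ, Category.assoc, pullback.lift_snd, Category.comp_id]
            exact pullback.condition
        exact (Scheme.Hom.comp_apply _ _ p).symm.trans ((congr($e p)).trans hp₂)
      let v₂ := (pullback.fst V.hom f).base Q
      -- isolate the point in its fibre over `U`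
      haveI := etale_left a
      obtain ⟨O, hO, hv₂, hiso⟩ : ∃ O : Set V.left, IsOpen O ∧ v₂ ∈ O ∧
          ∀ v ∈ O, a.left.base v = a.left.base v₂ → v = v₂ := by
        have hdisc : DiscreteTopology ↥(a.left.base ⁻¹' {a.left.base v₂}) := by
          haveI : LocallyQuasiFinite a.left := AlgSpLib.locallyQuasiFinite_of_formallyUnramified a.left
          exact (a.left.isDiscrete_preimage_singleton _).to_subtype
        obtain ⟨O, hO, hO'⟩ := isOpen_induced_iff.mp
          (isOpen_discrete ({⟨v₂, rfl⟩} : Set ↥(a.left.base ⁻¹' {a.left.base v₂})))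
        refine ⟨O, hO, (Set.ext_iff.mp hO' ⟨v₂, rfl⟩).mpr rfl, fun v hv he => ?_⟩
        exact congrArg Subtype.val ((Set.ext_iff.mp hO' ⟨v, he⟩).mp hv)
      let M : Set ((EtCoh.bc f).obj V).left :=
        (pullback.fst V.hom f).base ⁻¹' O ∩ (D V (F.obj.map b.op σ))ᶜ
      have hM : IsOpen M := (hO.preimage (pullback.fst V.hom f).continuous).inter
        (isClosed_germSupp _ _ _).isOpen_compl
      have hQM : Q ∈ M := ⟨hv₂, fun h => hwD (hb ▸ (hDmap b σ Q).mp h)⟩
      haveI := etale_left ((EtCoh.bc f).map a)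
      refine ⟨_, ((EtCoh.bc f).map a).left.isOpenMap _ hM, ⟨Q, hQM, ha⟩, ?_⟩
      rintro _ ⟨Q', ⟨hQ'O, hQ'D⟩, rfl⟩ he'
      have hfst : ∀ x, (pullback.fst U.hom f).base (((EtCoh.bc f).map a).left.base x) =
          a.left.base ((pullback.fst V.hom f).base x) := fun x => bc_fst f a x
      have hv' : (pullback.fst V.hom f).base Q' = v₂ := hiso _ hQ'O (by
        rw [← hfst, he', ← ha, hfst])
      have hne : v₂ ∈ germSupp F V (F.obj.map a.op s - F.obj.map b.op σ) := by
        refine (germSupp_pb f F V _ Q).mp ?_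
        rw [pb_sub]
        by_contra hn
        rcases germSupp_sub_subset (pb f F V (F.obj.map a.op s)) (pb f F V (F.obj.map b.op σ)) (tU V)
          ((hDmap a s Q).mpr (ha.symm ▸ hq)) with h1 | h1
        exacts [hn h1, hQM.2 h1]
      by_contra hn
      have hn' : Q' ∉ D V (F.obj.map a.op s) := fun h => hn ((hDmap a s Q').mp h)
      have h3 := (germSupp_pb f F V _ Q').mpr (hv' ▸ hne)
      rw [pb_sub] at h3
      rcases germSupp_sub_subset _ (tU V) _ h3 with h1 | h1
      · exact hn' h1
      · refine hQ'D ?_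
        obtain ⟨K, _, _, ζ, z, rfl⟩ := exists_algClosed_point ((EtCoh.bc f).obj V) Q'
        refine (mem_germSupp_iff (pb f F V (F.obj.map b.op σ) - tU V) z).mpr ?_
        have h2 := (mem_germSupp_iff (tU V - pb f F V (F.obj.map b.op σ)) z).mp h1
        rwa [← neg_sub, map_neg, ne_eq, neg_eq_zero] at h2
    by_contra hq₁
    let v := (pullback.fst U.hom f).base q₀
    choose N hN hqN hNfib using hopenD
    let O₁ : Set ((EtCoh.bc f).obj U).left :=
      ⋃ (q) (hq : q ∈ D U s) (_ : (pullback.fst U.hom f).base q = v), N q hq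
    have hO₁ : IsOpen O₁ := isOpen_iUnion fun q => isOpen_iUnion fun hq => isOpen_iUnion fun _ => hN q hq
    obtain ⟨q, hqv, hqD, hq₂⟩ := (fibre_connected f hc U v).isPreconnected (D U s)ᶜ O₁
      (isClosed_germSupp _ _ _).isOpen_compl hO₁
      (fun q hq => (em (q ∈ D U s)).elim
        (fun h => Or.inr (Set.mem_iUnion.mpr ⟨q, Set.mem_iUnion₂.mpr ⟨h, hq, hqN q h⟩⟩)) Or.inl)
      ⟨q₀, rfl, hq₀⟩
      ⟨q₁, he.symm, Set.mem_iUnion.mpr ⟨q₁, Set.mem_iUnion₂.mpr ⟨hq₁, he.symm, hqN q₁ hq₁⟩⟩⟩
    obtain ⟨q', hq'⟩ := Set.mem_iUnion.mp hq₂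
    obtain ⟨hq'D, hq'v, hqq'⟩ := Set.mem_iUnion₂.mp hq'
    exact hqD (hNfib q' hq'D q hqq' (hqv.trans hq'v.symm))
  -- agreeing sections on an etale cover
  have hloc : ∀ x : S, ∃ (U : S.Etale) (s : F.obj.obj (op U)) (v : U.left),
      U.hom.base v = x ∧ pb f F U s = tU U := by
    intro x
    obtain ⟨q₀, hq₀⟩ := surjective_fst f hc (EtCoh.top S) x
    obtain ⟨U, hU, s, q, hq, hqD⟩ := hpoint q₀
    haveI := hU
    let g : ((EtCoh.bc f).obj U).left ⟶ U.left := pullback.fst U.hom f
    haveI : QuasiCompact g := MorphismProperty.pullback_fst _ _ ‹QuasiCompact f›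
    haveI : CompactSpace ((EtCoh.bc f).obj U).left := QuasiCompact.compactSpace_of_compactSpace g
    haveI : SpectralSpace U.left := {}
    let E := (pullback.fst U.hom f).base '' D U s
    have hE : IsClosed E := by
      refine (cc_image g (E := D U s) (isClosed_germSupp _ _ _)).isClosed ?_
      rintro v' v hvv' ⟨p', hp', rfl⟩
      by_contra hv
      obtain ⟨p, hp⟩ := surjective_fst f hc U v
      have hpD : p ∉ D U s := fun h => hv ⟨p, h, hp⟩
      obtain ⟨p₁, hp₁, hp₁'⟩ := Flat.generalizingMap (pullback.fst U.hom f) (hp.symm ▸ hvv')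
      exact hall U s p₁ p' hp₁' (fun h => hpD (hp₁.mem_closed (isClosed_germSupp _ _ _) h)) hp'
    let O : U.left.Opens := ⟨Eᶜ, hE.isOpen_compl⟩
    have hvO : (pullback.fst U.hom f).base q ∈ O := fun ⟨p, hp, hpq⟩ => hall U s q p hpq.symm hqD hp
    refine ⟨restrictEtale U O, F.obj.map (restrictEtaleHom U O).op s, ⟨_, hvO⟩, ?_, ?_⟩
    · rw [← hq₀, ← hq, bc_fst f _ q]
      show _ = ((EtCore.topIsTerminal S).from U).left.base _
      rw [show ((EtCore.topIsTerminal S).from U).left = U.hom from
        (Category.comp_id _).symm.trans (MorphismProperty.Over.w _)]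
      rfl
    · rw [← sub_eq_zero]
      refine eq_zero_of_germSupp _ (Set.eq_empty_of_forall_notMem fun p hp => ?_)
      have h1 := (hDmap (restrictEtaleHom U O) s p).mp hp
      exact ((pullback.fst (restrictEtale U O).hom f).base p).2 ⟨_, h1, bc_fst f (restrictEtaleHom U O) p⟩
  choose U s v hv hs using hloc
  let c := fun x => (EtCore.topIsTerminal S).from (U x)
  have hsheaf := isSheafFor_of_covers F U c fun x => ⟨x, v x, by
    rw [show (c x).left = (U x).hom from (Category.comp_id _).symm.trans (MorphismProperty.Over.w _)]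
    exact hv x⟩
  obtain ⟨s', hs', -⟩ := (Presieve.isSheafFor_arrows_iff _ _).1 hsheaf s (by
    intro x y V a b hab
    refine hinj V _ _ ?_
    show pb f F V (F.obj.map a.op (s x)) = pb f F V (F.obj.map b.op (s y))
    rw [pb_map, pb_map, hs, hs, htU, htU])
  refine ⟨s', ?_⟩
  show pb f F (EtCoh.top S) s' = t
  have hcov : ∀ q : ((EtCoh.bc f).obj (EtCoh.top S)).left, ∃ (x : S) (z : ((EtCoh.bc f).obj (U x)).left),
      ((EtCoh.bc f).map (c x)).left.base z = q := by
    intro q
    let y := (pullback.fst (EtCoh.top S).hom f).base q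
    have hy : (c y).left.base (v y) = y := by
      rw [show (c y).left = (U y).hom from (Category.comp_id _).symm.trans (MorphismProperty.Over.w _)]
      exact hv y
    obtain ⟨z, hz₁, hz₂⟩ := Scheme.Pullback.exists_preimage_pullback
      (f := (c y).left) (g := pullback.fst (EtCoh.top S).hom f) (v y) q hy
    let φ : pullback (c y).left (pullback.fst (EtCoh.top S).hom f) ⟶ pullback (U y).hom f :=
      pullback.lift (pullback.fst _ _) (pullback.snd _ _ ≫ pullback.snd _ _) (by
        rw [Category.assoc, ← pullback.condition (f := (EtCoh.top S).hom) (g := f),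
          ← reassoc_of% (pullback.condition (f := (c y).left) (g := pullback.fst (EtCoh.top S).hom f)),
          MorphismProperty.Over.w])
    have e : φ ≫ ((EtCoh.bc f).map (c y)).left = pullback.snd _ _ := by
      apply pullback.hom_ext
      · show (φ ≫ pullback.map (U y).hom f (EtCoh.top S).hom f (c y).left (𝟙 T) (𝟙 S)
              ((Category.comp_id _).trans (MorphismProperty.Over.w (c y)).symm) ((Category.comp_id _).trans (Category.id_comp _).symm)) ≫
          pullback.fst (EtCoh.top S).hom f = _
        simp only [φ, Category.assoc, pullback.lift_fst, pullback.lift_fst_assoc]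
        exact pullback.condition
      · show (φ ≫ pullback.map (U y).hom f (EtCoh.top S).hom f (c y).left (𝟙 T) (𝟙 S)
              ((Category.comp_id _).trans (MorphismProperty.Over.w (c y)).symm) ((Category.comp_id _).trans (Category.id_comp _).symm)) ≫
          pullback.snd (EtCoh.top S).hom f = _
        simp only [φ, Category.assoc, pullback.lift_snd, Category.comp_id]
    exact ⟨y, φ.base z, (Scheme.Hom.comp_apply _ _ z).symm.trans ((congr($e z)).trans hz₂)⟩
  refine ((isSheafFor_of_covers P (fun x => (EtCoh.bc f).obj (U x))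
    (fun x => (EtCoh.bc f).map (c x)) hcov).isSeparatedFor.ext fun W w hw => ?_)
  obtain ⟨x⟩ := hw
  show (P).obj.map ((EtCoh.bc f).map (c x)).op _ = (P).obj.map ((EtCoh.bc f).map (c x)).op t
  rw [← pb_map, show F.obj.map (c x).op s' = s x from hs' x, hs]

end Groth.Agent.EtPBC63.FlatConn
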