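import Groth.Agent.GalEt.ConstPush
import Groth.Agent.EtPBC63.FlatConn

/-!
# Constant sheaves on normal schemes and dense subschemes
-/

universe u

open CategoryTheory CategoryTheory.Limits AlgebraicGeometry Opposite

namespace Groth.Agent.EtPBC63.ConstNormal

open EtFound Gabber FlatConn GalEt

set_option backward.isDefEq.respectTransparency.types false
set_option synthInstance.maxHeartbeats 400000

theorem cst_germ_bijective {Y : Scheme.{u}} (M : AddCommGrpCat.{u + 1}) (Z : Y.Etale) {Ω : Type u} [Field Ω]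
    [IsSepClosed Ω] {ξ : Spec (CommRingCat.of Ω) ⟶ Y} (z : (Scheme.pointSmallEtale ξ).fiber.obj Z) :
    Function.Bijective fun m => (Scheme.pointSmallEtale ξ).toPresheafFiber Z z ((constF Y).obj M).obj (cst M Z m) :=
  toSheafify_const_germ_bijective ξ AddCommGrpCat.{u + 1} M Z z

variable {X Y : Scheme.{u}} (f : Y ⟶ X) [IsPreimmersion f] [QuasiCompact f]
  (hn : ∀ x : X, IsDomain (X.presheaf.stalk x) ∧ IsIntegrallyClosed (X.presheaf.stalk x))
  (hmax : ∀ x : X, (∀ x' : X, x' ⤳ x → x' = x) → x ∈ Set.range f.base)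

include hn hmax in
omit [QuasiCompact f] in
/-- Over every point the fibre of `f` has a point generalising all others. -/
theorem exists_top_point (W : X.Etale) (w : W.left) :
    ∃ q₀ : ((EtCoh.bc f).obj W).left, (pullback.fst W.hom f).base q₀ ⤳ w ∧
      ∀ q : ((EtCoh.bc f).obj W).left, (pullback.fst W.hom f).base q ⤳ w → q₀ ⤳ q := by
  haveI : Etale (W.hom : W.left ⟶ X) := W.prop
  let h : W.left ⟶ X := W.hom
  haveI : IsDomain (W.left.presheaf.stalk w) := ((EtStalk.normal_stalk_iff h w).2 (hn _)).1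
  let g₀ : W.left := (W.left.fromSpecStalk w).base (⟨⊥, Ideal.isPrime_bot⟩ : PrimeSpectrum (W.left.presheaf.stalk w))
  have hgen : ∀ c, c ⤳ w → g₀ ⤳ c := fun c hc => by
    obtain ⟨p, rfl⟩ : c ∈ Set.range (W.left.fromSpecStalk w).base := by
      rw [Scheme.range_fromSpecStalk]; exact hc
    exact ((PrimeSpectrum.le_iff_specializes (⟨⊥, Ideal.isPrime_bot⟩ : PrimeSpectrum _) p).1
      (bot_le (a := p.asIdeal))).map (W.left.fromSpecStalk w).continuous
  have hg₀ : g₀ ⤳ w := by
    have : g₀ ∈ Set.range (W.left.fromSpecStalk w).base := ⟨_, rfl⟩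
    rwa [Scheme.range_fromSpecStalk] at this
  obtain ⟨y, hy⟩ := hmax (h.base g₀) fun x' hx' => by
    obtain ⟨g', hg', rfl⟩ := Flat.generalizingMap h hx'
    rw [(hg'.antisymm (hgen g' (hg'.trans hg₀))).eq]
  obtain ⟨q₀, hq₀, -⟩ := Scheme.Pullback.exists_preimage_pullback (f := h) (g := f) g₀ y hy.symm
  refine ⟨q₀, by rw [show (pullback.fst W.hom f).base q₀ = g₀ from hq₀]; exact hg₀, fun q hq => ?_⟩
  haveI : IsPreimmersion (pullback.fst W.hom f) :=
    MorphismProperty.pullback_fst (P := @IsPreimmersion) W.hom f ‹IsPreimmersion f›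
  refine (pullback.fst W.hom f).isEmbedding.isInducing.specializes_iff.1 ?_
  rw [show (pullback.fst W.hom f).base q₀ = g₀ from hq₀]
  exact hgen _ hq

include hn hmax in
/-- A constant sheaf on a normal scheme is the direct image of its restriction to a dense subscheme. -/
theorem isIso_unit_const (M : Type) [AddCommGroup M] :
    IsIso ((EtCoh.pullPushAdj f).unit.app (EtCoh.const X M)) := by
  classical
  let M' := AddCommGrpCat.of (ULift.{u + 1} M)
  let C := EtCoh.const X M
  let η := (EtCoh.pullPushAdj f).unit.app C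
  let pc := fun Z => (EtCore.pullConst f M).hom.hom.app (op Z)
  have hinjpc : ∀ Z, Function.Injective (pc Z) := fun Z x y e => by
    have h := congrArg ((EtCore.pullConst f M).inv.hom.app (op Z)) e
    have e' : ∀ x, (EtCore.pullConst f M).inv.hom.app (op Z) ((EtCore.pullConst f M).hom.hom.app (op Z) x) = x :=
      fun x => congrArg (fun a : (EtCoh.pull f).obj C ⟶ (EtCoh.pull f).obj C => a.hom.app (op Z) x)
        (EtCore.pullConst f M).hom_inv_id
    simp only [pc, e'] at h
    exact h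
  haveI : ∀ U, Mono (η.hom.app U) := fun U => by
    refine (AddCommGrpCat.mono_iff_injective _).2 ?_
    refine (injective_iff_map_eq_zero (η.hom.app U).hom).2 fun s hs => ?_
    refine EtFound.eq_of_cover C s 0 ((EtFound.mem_topology_iff _).2 fun x => ?_)
    obtain ⟨V₁, g₁, v₁, ⟨m, hm⟩, hv₁⟩ := (EtFound.mem_topology_iff _).1
      (Presheaf.imageSieve_mem X.smallEtaleTopology
        (toSheafify X.smallEtaleTopology ((Functor.const X.Etaleᵒᵖ).obj M')) (U := U) s) x
    refine ⟨V₁, g₁, v₁, ?_, hv₁⟩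
    show C.obj.map g₁.op s = C.obj.map g₁.op 0
    have e : C.obj.map g₁.op s = cst M' V₁ m := hm.symm
    have h0 : η.hom.app (op V₁) (cst M' V₁ m) = 0 := by
      rw [← e]
      refine (NatTrans.naturality_apply η.hom g₁.op s).trans ?_
      exact (congrArg (((EtCoh.push f).obj ((EtCoh.pull f).obj C)).obj.map g₁.op) hs).trans (map_zero _)
    have h1 : cst M' ((EtCoh.bc f).obj V₁) m = 0 := (unit_cst f M V₁ m).symm.trans
      ((congrArg (pc ((EtCoh.bc f).obj V₁)) h0).trans (map_zero _))
    obtain ⟨q₀, -, -⟩ := exists_top_point f hn hmax V₁ v₁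
    obtain ⟨K, _, _, ζ, z, -⟩ := exists_algClosed_point ((EtCoh.bc f).obj V₁) q₀
    have hm0 : m = 0 := (cst_germ_bijective M' ((EtCoh.bc f).obj V₁) z).1
      ((congrArg _ h1).trans (congrArg _ (map_zero (cst M' ((EtCoh.bc f).obj V₁)).hom).symm))
    rw [e, hm0, map_zero, map_zero]
  haveI := NatTrans.mono_of_mono_app η.hom
  haveI : Mono η := (sheafToPresheaf _ _).mono_of_mono_map (inferInstanceAs (Mono η.hom))
  haveI : Epi η := by
    refine (Sheaf.isLocallySurjective_iff_epi' _ η).1 ⟨fun {U} s₀ => (EtFound.mem_topology_iff _).2 fun x => ?_⟩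
    -- an affine neighbourhood
    obtain ⟨A, hA, hxA, -⟩ := exists_isAffineOpen_mem_and_subset (U := (⊤ : U.left.Opens)) (x := x) trivial
    let W := restrictEtale U A
    let gW : W ⟶ U := restrictEtaleHom U A
    let s := ((EtCoh.push f).obj ((EtCoh.pull f).obj C)).obj.map gW.op s₀
    let w : W.left := ⟨x, hxA⟩
    let Z := (EtCoh.bc f).obj W
    let G := (constF Y).obj M'
    let t : G.obj.obj (op Z) := pc Z s
    let P : ULift.{u + 1} M → Set Z.left := fun m => (germSupp G Z (t - cst M' Z m))ᶜ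
    have hP : ∀ m, IsOpen (P m) := fun m => (isClosed_germSupp _ _ _).isOpen_compl
    have hcov : ∀ q : Z.left, ∃ m, q ∈ P m := fun q => by
      obtain ⟨K, _, _, ζ, z, rfl⟩ := exists_algClosed_point Z q
      obtain ⟨m, hm⟩ := (cst_germ_bijective M' Z z).2 ((Scheme.pointSmallEtale ζ).toPresheafFiber Z z G.obj t)
      exact ⟨m, fun h => (mem_germSupp_iff _ z).mp h (by rw [map_sub]; exact sub_eq_zero.2 hm.symm)⟩
    have huniq : ∀ (q : Z.left) m m', q ∈ P m → q ∈ P m' → m = m' := fun q m m' h h' => by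
      obtain ⟨K, _, _, ζ, z, rfl⟩ := exists_algClosed_point Z q
      have e1 := not_not.1 fun h1 => h ((mem_germSupp_iff _ z).mpr h1)
      have e2 := not_not.1 fun h1 => h' ((mem_germSupp_iff _ z).mpr h1)
      rw [map_sub, sub_eq_zero] at e1 e2
      exact (cst_germ_bijective M' Z z).1 (e1.symm.trans e2)
    obtain ⟨q₀, hq₀w, hq₀⟩ := exists_top_point f hn hmax W w
    obtain ⟨m₀, hm₀⟩ := hcov q₀
    haveI : IsAffine W.left := hA
    let fW : Z.left ⟶ W.left := pullback.fst W.hom f
    haveI : QuasiCompact fW := MorphismProperty.pullback_fst _ _ ‹QuasiCompact f›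
    haveI : CompactSpace Z.left := QuasiCompact.compactSpace_of_compactSpace fW
    haveI : SpectralSpace W.left := {}
    have hw : w ∉ closure (fW.base '' (P m₀)ᶜ) := fun hcl => by
      obtain ⟨_, ⟨q, hq, rfl⟩, hsp⟩ := (cc_image fW (hP m₀).isClosed_compl).exists_specializes hcl
      obtain ⟨m, hm⟩ := hcov q
      exact hq (huniq q₀ m₀ m hm₀ ((hq₀ q hsp).mem_open (hP m) hm) ▸ hm)
    let O : W.left.Opens := ⟨(closure (fW.base '' (P m₀)ᶜ))ᶜ, isClosed_closure.isOpen_compl⟩
    let V := restrictEtale W O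
    let gV : V ⟶ W := restrictEtaleHom W O
    refine ⟨V, gV ≫ gW, ⟨w, hw⟩, ⟨cst M' V m₀, ?_⟩, Scheme.Hom.comp_apply gV.left gW.left _⟩
    refine hinjpc ((EtCoh.bc f).obj V) ((unit_cst f M V m₀).trans ?_)
    have e1 : ((EtCoh.push f).obj ((EtCoh.pull f).obj C)).obj.map (gV ≫ gW).op s₀ =
        ((EtCoh.pull f).obj C).obj.map ((EtCoh.bc f).map gV).op s := by
      rw [op_comp, Functor.map_comp_apply]; rfl
    refine Eq.trans ?_ (congrArg (pc ((EtCoh.bc f).obj V)) e1).symm
    refine Eq.trans ?_ (NatTrans.naturality_apply (EtCore.pullConst f M).hom.hom ((EtCoh.bc f).map gV).op s).symm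
    refine (cst_res M' ((EtCoh.bc f).map gV) m₀).symm.trans ?_
    refine (sub_eq_zero.1 ?_).symm
    show G.obj.map ((EtCoh.bc f).map gV).op t - G.obj.map ((EtCoh.bc f).map gV).op (cst M' Z m₀) = 0
    rw [← map_sub]
    refine eq_zero_of_germSupp _ (Set.eq_empty_of_forall_notMem fun q hq => ?_)
    have hqD := (germSupp_map ((EtCoh.bc f).map gV) _ q).mp hq
    have h5 : fW.base (((EtCoh.bc f).map gV).left.base q) ∈ O := by
      rw [show fW.base (((EtCoh.bc f).map gV).left.base q) = _ from bc_fst f gV q]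
      exact ((pullback.fst V.hom f).base q).2
    exact h5 (subset_closure ⟨_, fun h => h hqD, rfl⟩)
  exact isIso_of_mono_of_epi η

/-- A quasi-compact dense open contains all maximal points. -/
theorem mem_range_of_maximal {U : Scheme.{u}} (j : U ⟶ X) [IsOpenImmersion j] [QuasiCompact j]
    (hj : Dense (Set.range j)) (x : X) (hx : ∀ x' : X, x' ⤳ x → x' = x) : x ∈ Set.range j.base := by
  obtain ⟨V, hV, hxV, -⟩ := exists_isAffineOpen_mem_and_subset (U := (⊤ : X.Opens)) (x := x) trivial
  haveI : IsAffine V.toScheme := hV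
  let g : (j ⁻¹ᵁ V).toScheme ⟶ V.toScheme := j ∣_ V
  haveI : CompactSpace (j ⁻¹ᵁ V).toScheme := isCompact_iff_compactSpace.mp (j.isCompact_preimage hV.isCompact)
  haveI : SpectralSpace V.toScheme := {}
  have hd : Dense (Set.range g.base) := by
    intro v
    rw [V.ι.isEmbedding.isInducing.closure_eq_preimage_closure_image]
    refine closure_mono ?_ (hj.open_subset_closure_inter V.2 v.2)
    rintro _ ⟨hyV, y, rfl⟩
    refine ⟨g.base ⟨y, hyV⟩, ⟨_, rfl⟩, ?_⟩
    exact (Scheme.Hom.comp_apply g V.ι _).symm.trans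
      (congrArg (fun k : (j ⁻¹ᵁ V).toScheme ⟶ X => k.base ⟨y, hyV⟩) (morphismRestrict_ι j V))
  obtain ⟨_, ⟨p, -, rfl⟩, hsp⟩ := (cc_image g isClosed_univ).exists_specializes
    (y := (⟨x, hxV⟩ : V.toScheme)) (by rw [Set.image_univ]; exact hd _)
  refine ⟨p.1, Eq.trans ?_ (hx _ (hsp.map V.ι.continuous))⟩
  exact (congrArg (fun k : (j ⁻¹ᵁ V).toScheme ⟶ X => k.base p) (morphismRestrict_ι j V)).symm.trans
    (Scheme.Hom.comp_apply g V.ι p)

/-- The inclusion of a point is quasi-compact. -/
theorem quasiCompact_fromSpecResidueField (x : X) : QuasiCompact (X.fromSpecResidueField x) := by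
  refine ⟨fun s _ _ => ?_⟩
  haveI : Subsingleton ↥(Spec (X.residueField x)) := inferInstanceAs (Subsingleton (PrimeSpectrum (X.residueField x)))
  exact Set.Subsingleton.isCompact Set.subsingleton_of_subsingleton

end Groth.Agent.EtPBC63.ConstNormal
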