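import Groth.Agent.EtPBC63.Gen

/-! torsion sheaves as filtered colimits of constructible sheaves -/

universe u

open CategoryTheory CategoryTheory.Limits AlgebraicGeometry Opposite
open scoped ZeroObject

namespace Groth.Agent.EtPBC63

open Groth.Agent.EtFound

set_option backward.isDefEq.respectTransparency.types false

variable (X : Scheme.{u})

/-- presentations of constructible sheaves -/
structure Pres : Type (u + 1) where
  n : ℕ
  a : ℕ
  b : ℕ
  V : Fin a → X.Etale
  U : Fin b → X.Etale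
  φ : (⨁ fun j => EtPBC.extZeroConst (V j) (ZMod n)) ⟶ ⨁ fun i => EtPBC.extZeroConst (U i) (ZMod n)

variable {X}

noncomputable def Pres.pt (p : Pres X) : EtCoh.Ab X := cokernel p.φ

theorem exists_pres [CompactSpace X] [QuasiSeparatedSpace X] {G : EtCoh.Ab X} (hG : EtPBC.IsConstructible G) :
    ∃ p : Pres X, Nonempty (G ≅ p.pt) := by
  obtain ⟨n, hn, hGn⟩ := exists_killedBy X hG
  haveI : NeZero n := ⟨hn.ne'⟩
  obtain ⟨a, b, V, U, -, -, φ, e⟩ := exists_presentation X hG hGn
  exact ⟨⟨n, a, b, V, U, φ⟩, e⟩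

/-- a class of constructible sheaves mapping to a fixed sheaf -/
structure Stage (P : EtCoh.Ab X → Prop) (F : EtCoh.Ab X) : Type (u + 1) where
  p : Pres X
  hp : P p.pt
  h : p.pt ⟶ F

noncomputable def stageOver (P : EtCoh.Ab X → Prop) (F : EtCoh.Ab X) (s : Stage P F) : Over F := Over.mk s.h

abbrev Index (P : EtCoh.Ab X → Prop) (F : EtCoh.Ab X) : Type (u + 1) := InducedCategory (Over F) (stageOver P F)

variable [CompactSpace X] [QuasiSeparatedSpace X]

/-- a sheaf generated by a good class of constructible sheaves is their filtered colimit -/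
theorem exists_colimit (F : EtCoh.Ab X) (P : EtCoh.Ab X → Prop)
    (hP : ∀ G, P G → EtPBC.IsConstructible G)
    (hiso : ∀ G G' : EtCoh.Ab X, Nonempty (G ≅ G') → P G → P G')
    (hzero : ∀ G : EtCoh.Ab X, IsZero G → P G)
    (hsum : ∀ G G' : EtCoh.Ab X, P G → P G' → P (G ⊞ G'))
    (hcok : ∀ (G G' : EtCoh.Ab X) (φ : G ⟶ G'), EtPBC.IsConstructible G → P G' → P (cokernel φ))
    (hgen : ∀ (Ω : Type u) [Field Ω] [IsSepClosed Ω] (ξ : Spec (CommRingCat.of Ω) ⟶ X) (c : (EtCoh.stalk ξ).obj F),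
      ∃ (G : EtCoh.Ab X) (_ : P G) (h : G ⟶ F) (d : (EtCoh.stalk ξ).obj G), (EtCoh.stalk ξ).map h d = c) :
    ∃ (J : Type (u + 1)) (_ : SmallCategory J) (_ : IsFiltered J) (D : J ⥤ EtCoh.Ab X)
      (c : Cocone D) (_ : IsColimit c), Nonempty (c.pt ≅ F) ∧ ∀ j, P (D.obj j) := by
  have mk : ∀ (G : EtCoh.Ab X), P G → ∀ h : G ⟶ F,
      ∃ (s : Stage P F) (e : G ⟶ s.p.pt), IsIso e ∧ e ≫ s.h = h := by
    intro G hG h
    obtain ⟨p, ⟨e⟩⟩ := exists_pres (hP G hG)
    exact ⟨⟨p, hiso _ _ ⟨e⟩ hG, e.inv ≫ h⟩, e.hom, inferInstance, Iso.hom_inv_id_assoc _ _⟩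
  let J := Index P F
  let D : J ⥤ EtCoh.Ab X := inducedFunctor (stageOver P F) ⋙ Over.forget F
  let c : Cocone D := ⟨F, { app := fun j => (stageOver P F j).hom
                            naturality := fun i j f => (Over.w f.hom).trans (Category.comp_id _).symm }⟩
  obtain ⟨z, -, -, -⟩ := mk _ (hzero _ (isZero_zero _)) 0
  haveI : IsFiltered J :=
    { nonempty := ⟨z⟩
      cocone_objs := fun i j => by
        obtain ⟨k, e, -, he⟩ := mk _ (hsum _ _ i.hp j.hp) (biprod.desc i.h j.h)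
        exact ⟨k, InducedCategory.homMk (Over.homMk (biprod.inl ≫ e)
            (show (biprod.inl ≫ e) ≫ k.h = i.h by rw [Category.assoc, he, biprod.inl_desc])),
          InducedCategory.homMk (Over.homMk (biprod.inr ≫ e)
            (show (biprod.inr ≫ e) ≫ k.h = j.h by rw [Category.assoc, he, biprod.inr_desc])), trivial⟩
      cocone_maps := fun i j f g => by
        let f' : i.p.pt ⟶ j.p.pt := f.hom.left
        let g' : i.p.pt ⟶ j.p.pt := g.hom.left
        have hf : f' ≫ j.h = i.h := Over.w f.hom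
        have hg : g' ≫ j.h = i.h := Over.w g.hom
        have h0 : (f' - g') ≫ j.h = 0 := by rw [Preadditive.sub_comp, hf, hg, sub_self]
        obtain ⟨k, e, -, he⟩ := mk _ (hcok _ _ (f' - g') (hP _ i.hp) j.hp) (cokernel.desc _ j.h h0)
        refine ⟨k, InducedCategory.homMk (Over.homMk (cokernel.π (f' - g') ≫ e)
          (show (cokernel.π (f' - g') ≫ e) ≫ k.h = j.h by rw [Category.assoc, he, cokernel.π_desc])),
          InducedCategory.hom_ext (Over.OverMorphism.ext ?_)⟩
        change f' ≫ cokernel.π (f' - g') ≫ e = g' ≫ cokernel.π (f' - g') ≫ e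
        rw [← sub_eq_zero, ← Preadditive.sub_comp, cokernel.condition_assoc, zero_comp] }
  let cl := colimit.cocone D
  let hcl : IsColimit cl := colimit.isColimit D
  let m : cl.pt ⟶ F := colimit.desc D c
  have hm : ∀ j : J, cl.ι.app j ≫ m = (stageOver P F j).hom := fun j => colimit.ι_desc c j
  have hiso' : IsIso m := by
    rw [isIso_iff_stalks]
    intro Ω _ _ ξ
    let Φ := Scheme.pointSmallEtale ξ
    have : PreservesColimitsOfSize.{u + 1, u + 1} (EtCoh.stalk ξ) :=
      (Φ.skyscraperSheafAdjunction (A := AddCommGrpCat.{u + 1})).leftAdjoint_preservesColimits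
    have hl := isColimitOfPreserves (EtCoh.stalk ξ) hcl
    have happ : ∀ (j : J) (d : (EtCoh.stalk ξ).obj (D.obj j)),
        (EtCoh.stalk ξ).map m ((EtCoh.stalk ξ).map (cl.ι.app j) d) = (EtCoh.stalk ξ).map (stageOver P F j).hom d :=
      fun j d => by
        rw [← ConcreteCategory.comp_apply, ← Functor.map_comp]
        exact congrArg (fun q => (EtCoh.stalk ξ).map q d) (hm j)
    rw [ConcreteCategory.isIso_iff_bijective]
    refine ⟨(injective_iff_map_eq_zero ((EtCoh.stalk ξ).map m).hom).2 fun x hx => ?_, fun x => ?_⟩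
    · obtain ⟨j, d, rfl⟩ := Concrete.isColimit_exists_rep _ hl x
      have hd : (EtCoh.stalk ξ).map j.h d = 0 := (happ j d).symm.trans hx
      obtain ⟨E, hE, e, d', he, hd'⟩ := exists_kill (hP _ j.hp) j.h d hd
      obtain ⟨k, e', -, hk⟩ := mk _ (hcok _ _ e hE j.hp) (cokernel.desc e j.h he)
      let a : j ⟶ k := InducedCategory.homMk (Over.homMk (cokernel.π e ≫ e')
        (show (cokernel.π e ≫ e') ≫ k.h = j.h by rw [Category.assoc, hk, cokernel.π_desc]))
      change (EtCoh.stalk ξ).map (cl.ι.app j) d = 0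
      rw [← cl.w a, ← hd']
      refine (Functor.map_comp_apply (EtCoh.stalk ξ) e (cokernel.π e ≫ e' ≫ cl.ι.app k) d').symm.trans ?_ |> fun q => Eq.trans ?_ q
      · exact congrArg (fun q : j.p.pt ⟶ cl.pt => (EtCoh.stalk ξ).map q ((EtCoh.stalk ξ).map e d')) (Category.assoc _ _ _)
      change (EtCoh.stalk ξ).map (e ≫ cokernel.π e ≫ e' ≫ cl.ι.app k) d' = 0
      rw [cokernel.condition_assoc, zero_comp, Functor.map_zero]
      rfl
    · obtain ⟨G, hG, h, d, rfl⟩ := hgen Ω ξ x
      obtain ⟨k, e, -, he⟩ := mk G hG h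
      refine ⟨(EtCoh.stalk ξ).map (cl.ι.app k) ((EtCoh.stalk ξ).map e d), (happ k _).trans ?_⟩
      refine (Functor.map_comp_apply (EtCoh.stalk ξ) e k.h d).symm.trans ?_
      exact congrArg (fun q => (EtCoh.stalk ξ).map q d) he
  exact ⟨J, inferInstance, inferInstance, D, cl, hcl, ⟨asIso m⟩, fun j => j.hp⟩

/-- every torsion sheaf is a filtered colimit of constructible sheaves -/
theorem exists_colimit_constructible (F : EtCoh.Ab X) (hF : EtCoh.IsTorsion F) :
    ∃ (J : Type (u + 1)) (_ : SmallCategory J) (_ : IsFiltered J) (D : J ⥤ EtCoh.Ab X)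
      (c : Cocone D) (_ : IsColimit c), Nonempty (c.pt ≅ F) ∧ ∀ j, EtPBC.IsConstructible (D.obj j) :=
  exists_colimit F EtPBC.IsConstructible (fun _ h => h) (fun _ _ ⟨e⟩ h => isConstructible_of_iso e h)
    (fun _ h => isConstructible_of_isZero h) (fun _ _ h h' => isConstructible_biprod h h')
    (fun _ _ φ h h' => isConstructible_cokernel φ h h') (fun Ω _ _ ξ c => by
      obtain ⟨V, hV, v, n, hn, h, rfl⟩ := exists_gen hF c
      exact ⟨_, S0133.result X V (ZMod n), h, _, stalk_map_germ h V v (one V n)⟩)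

omit [CompactSpace X] [QuasiSeparatedSpace X] in
/-- `F` itself is a stage after factoring an identity -/
theorem exists_factor {F : EtCoh.Ab X} {J : Type (u + 1)} [SmallCategory J] [IsFiltered J] {D : J ⥤ EtCoh.Ab X}
    {c : Cocone D} (hc : IsColimit c) (e : c.pt ≅ F) {E : EtCoh.Ab X} (hE : IsCpt E) (a : E ⟶ F) :
    ∃ (j : J) (b : E ⟶ D.obj j), b ≫ c.ι.app j ≫ e.hom = a := by
  obtain ⟨j, b, hb⟩ := hE.exists_stage hc (a ≫ e.inv)
  exact ⟨j, b, by rw [reassoc_of% hb, Iso.inv_hom_id, Category.comp_id]⟩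

end Groth.Agent.EtPBC63
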