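import Groth.Agent.ShSpLib.Embedding
import Groth.Agent.EtFound.SpectralPiZero
import Mathlib.Topology.Sheaves.Stalks
import Mathlib.Topology.Sheaves.SheafCondition.UniqueGluing

/-! sections over a closed subset of a spectral space meeting closures in connected sets -/

set_option autoImplicit false

universe u

open CategoryTheory CategoryTheory.Limits TopologicalSpace Opposite TopCat Topology

namespace Groth.Agent.EtPBC63

/-- the points specialising into a compact set form a pro-constructible set -/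
theorem cc_generalizations_compact {X : Type u} [TopologicalSpace X] [SpectralSpace X] {A : Set X} (hA : IsCompact A) :
    SpecLib.CC {x : X | ∃ a ∈ A, x ⤳ a} := by
  have e : {x : X | ∃ a ∈ A, x ⤳ a} = ⋂₀ {s : Set X | (IsOpen s ∧ IsCompact s) ∧ A ⊆ s} := by
    refine Set.Subset.antisymm (fun x ⟨a, ha, hxa⟩ s hs => hxa.mem_open hs.1.1 (hs.2 ha)) fun x hx => ?_
    by_contra hne
    have : ∀ v ∈ A, ∃ U : Set X, (IsOpen U ∧ IsCompact U) ∧ v ∈ U ∧ x ∉ U := fun v hv => by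
      by_contra h
      push Not at h
      exact hne ⟨v, hv, SpecLib.specializes_of_forall_qc fun U a b c => h U ⟨a, b⟩ c⟩
    choose! U hU heU hxU using this
    obtain ⟨t, htV, ht, hcov⟩ := hA.elim_finite_subcover_image (fun v hv => (hU v hv).1)
      (fun v hv => Set.mem_biUnion hv (heU v hv))
    obtain ⟨v, hv, hxv⟩ := Set.mem_iUnion₂.1 (hx (⋃ v ∈ t, U v) ⟨⟨isOpen_biUnion fun v hv => (hU v (htV hv)).1,
      ht.isCompact_biUnion fun v hv => (hU v (htV hv)).2⟩, hcov⟩)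
    exact hxU v (htV hv) hxv
  exact e ▸ SpecLib.CC.sInter fun s hs => SpecLib.cc_of_isOpen_isCompact hs.1.1 hs.1.2

variable {X : TopCat.{u}} (F : X.Sheaf (Type u))

/-- equal germs stay equal at generisations -/
theorem germ_eq_of_specializes {U V : Opens X} (s : F.1.obj (op U)) (t : F.1.obj (op V)) {x y : X} (hyx : y ⤳ x)
    (hxU : x ∈ U) (hxV : x ∈ V) (h : F.presheaf.germ U x hxU s = F.presheaf.germ V x hxV t) :
    F.presheaf.germ U y (hyx.mem_open U.2 hxU) s = F.presheaf.germ V y (hyx.mem_open V.2 hxV) t := by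
  obtain ⟨W, hxW, iU, iV, e⟩ := F.presheaf.germ_eq x hxU hxV s t h
  exact F.presheaf.germ_ext W (hyx.mem_open W.2 hxW) iU iV e

theorem exists_glue [SpectralSpace X] {Z : Set X} (hZ : IsClosed Z) (hconn : ∀ x : X, IsConnected (Z ∩ closure {x}))
    {ι : Type u} [Finite ι] (U : ι → Opens X) (hU : ∀ i, IsCompact (U i : Set X))
    (s : ∀ i, F.1.obj (op (U i))) (hcov : ∀ z ∈ Z, ∃ i, z ∈ U i)
    (hagree : ∀ i j, ∀ z ∈ Z, ∀ (hi : z ∈ U i) (hj : z ∈ U j),
      F.presheaf.germ (U i) z hi (s i) = F.presheaf.germ (U j) z hj (s j)) :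
    ∃ σ : F.1.obj (op ⊤), ∀ i, ∀ z ∈ Z, ∀ hi : z ∈ U i,
      F.presheaf.germ ⊤ z True.intro σ = F.presheaf.germ (U i) z hi (s i) := by
  let Gen : ι → Set X := fun j => {y | ∃ z ∈ Z ∩ U j, y ⤳ z}
  have hGU : ∀ j, Gen j ⊆ U j := fun j y ⟨z, hz, hyz⟩ => hyz.mem_open (U j).2 hz.2
  have hget : ∀ y, ∃ j, ∃ z ∈ Z ∩ U j, y ⤳ z := fun y => by
    obtain ⟨z, hz, hzy⟩ := (hconn y).nonempty
    obtain ⟨j, hj⟩ := hcov z hz
    exact ⟨j, z, ⟨hz, hj⟩, specializes_iff_mem_closure.2 hzy⟩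
  -- the germ does not depend on the piece
  have hwd : ∀ i j, ∀ (y : X) (hi : y ∈ Gen i) (hj : y ∈ Gen j),
      F.presheaf.germ (U i) y (hGU i hi) (s i) = F.presheaf.germ (U j) y (hGU j hj) (s j) := by
    intro i j y hi hj
    by_contra hne
    let a := F.presheaf.germ (U i) y (hGU i hi) (s i)
    let O : (F.presheaf.stalk y → Prop) → Set X := fun P =>
      ⋃ k : {k : ι // ∃ h : y ∈ U k, P (F.presheaf.germ (U k) y h (s k))}, (U k.1 : Set X)
    have hOo : ∀ P, IsOpen (O P) := fun P => isOpen_iUnion fun k => (U k.1).2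
    obtain ⟨zi, hzi, hyzi⟩ := hi
    obtain ⟨zj, hzj, hyzj⟩ := hj
    obtain ⟨z, ⟨hzZ, hzy⟩, hz1, hz2⟩ := (hconn y).isPreconnected (O (· = a)) (O (· ≠ a)) (hOo (· = a)) (hOo (· ≠ a))
      (fun z hz => by
        obtain ⟨k, hk⟩ := hcov z hz.1
        have hy : y ∈ U k := (specializes_iff_mem_closure.2 hz.2).mem_open (U k).2 hk
        by_cases e : F.presheaf.germ (U k) y hy (s k) = a
        · exact Or.inl (Set.mem_iUnion.2 ⟨⟨k, hy, e⟩, hk⟩)
        · exact Or.inr (Set.mem_iUnion.2 ⟨⟨k, hy, e⟩, hk⟩))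
      ⟨zi, ⟨hzi.1, hyzi.mem_closure⟩, Set.mem_iUnion.2 ⟨⟨i, _, rfl⟩, hzi.2⟩⟩
      ⟨zj, ⟨hzj.1, hyzj.mem_closure⟩, Set.mem_iUnion.2 ⟨⟨j, _, fun e => hne e.symm⟩, hzj.2⟩⟩
    obtain ⟨⟨k, hk, ek⟩, hzk⟩ := Set.mem_iUnion.1 hz1
    obtain ⟨⟨l, hl, el⟩, hzl⟩ := Set.mem_iUnion.1 hz2
    exact el ((germ_eq_of_specializes F (s l) (s k) (specializes_iff_mem_closure.2 hzy) hzl hzk
      (hagree l k z hzZ hzl hzk)).trans ek)
  let Dis : ι → ι → Set X := fun i j => {y | ∃ (hi : y ∈ U i) (hj : y ∈ U j),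
    F.presheaf.germ (U i) y hi (s i) ≠ F.presheaf.germ (U j) y hj (s j)}
  let A : ι → Set X := fun i => (U i : Set X) ∩ (⋃ j, Gen j ∩ Dis i j)ᶜ
  have hAeq : ∀ i j (y : X) (hi : y ∈ A i) (hj : y ∈ Gen j),
      F.presheaf.germ (U i) y hi.1 (s i) = F.presheaf.germ (U j) y (hGU j hj) (s j) := by
    intro i j y hi hj
    by_contra h
    exact hi.2 (Set.mem_iUnion.2 ⟨j, hj, hi.1, hGU j hj, h⟩)
  have hGA : ∀ i, Gen i ⊆ A i := fun i y hy => ⟨hGU i hy, fun h => by
    obtain ⟨j, hj, h1, h2, hne⟩ := Set.mem_iUnion.1 h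
    exact hne (hwd i j y hy hj)⟩
  have hDis : ∀ i j, SpecLib.CC (Dis i j) := fun i j => by
    let E : Set X := {y | ∃ (hi : y ∈ U i) (hj : y ∈ U j),
      F.presheaf.germ (U i) y hi (s i) = F.presheaf.germ (U j) y hj (s j)}
    have hE : IsOpen E := isOpen_iff_forall_mem_open.2 fun y ⟨hi, hj, h⟩ => by
      obtain ⟨W, hyW, iU, iV, e⟩ := F.presheaf.germ_eq y hi hj (s i) (s j) h
      exact ⟨W, fun w hw => ⟨iU.le hw, iV.le hw, F.presheaf.germ_ext W hw iU iV e⟩, W.2, hyW⟩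
    have : Dis i j = ((U i : Set X) ∩ (U j : Set X)) ∩ Eᶜ :=
      Set.Subset.antisymm (fun y ⟨hi, hj, h⟩ => ⟨⟨hi, hj⟩, fun ⟨_, _, h'⟩ => h h'⟩)
        fun y ⟨⟨hi, hj⟩, h⟩ => ⟨hi, hj, fun h' => h ⟨hi, hj, h'⟩⟩
    rw [this]
    exact ((SpecLib.cc_of_isOpen_isCompact (U i).2 (hU i)).inter (SpecLib.cc_of_isOpen_isCompact (U j).2 (hU j))).inter
      (SpecLib.cc_of_isClosed hE.isClosed_compl)
  have hAo : ∀ i, IsOpen (A i) := fun i => by
    refine SpecLib.CO.isOpen ((SpecLib.co_of_isOpen (U i).2).inter (SpecLib.CC.compl ?_)) fun y y' hy'y hy => ?_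
    · exact @isClosed_iUnion_of_finite X _ (constructibleTopology X) _ _ fun j =>
        (cc_generalizations_compact ((hU j).inter_left hZ)).inter (hDis i j)
    · refine ⟨hy'y.mem_open (U i).2 hy.1, fun h => ?_⟩
      obtain ⟨j, hj, h1, h2, hne⟩ := Set.mem_iUnion.1 h
      obtain ⟨k, hk⟩ := hget y
      have hk' : y' ∈ Gen k := by obtain ⟨z, hz, hyz⟩ := hk; exact ⟨z, hz, hy'y.trans hyz⟩
      exact hne ((germ_eq_of_specializes F (s i) (s k) hy'y hy.1 (hGU k hk) (hAeq i k y hy hk)).trans (hwd k j y' hk' hj))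
  let V : ι → Opens X := fun i => ⟨A i, hAo i⟩
  have hVU : ∀ i, V i ≤ U i := fun i y hy => hy.1
  let sf : ∀ i, F.1.obj (op (V i)) := fun i => F.1.map (homOfLE (hVU i)).op (s i)
  have hsf : ∀ i (y : X) (hy : y ∈ V i), F.presheaf.germ (V i) y hy (sf i) = F.presheaf.germ (U i) y hy.1 (s i) :=
    fun i y hy => TopCat.Presheaf.germ_res_apply _ _ _ _ _
  obtain ⟨σ, hσ, -⟩ := F.existsUnique_gluing' V ⊤ (fun i => homOfLE le_top)
    (fun y _ => by
      obtain ⟨j, hj⟩ := hget y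
      exact Opens.mem_iSup.2 ⟨j, hGA j hj⟩) sf (fun i j => by
      refine TopCat.Presheaf.section_ext F _ _ _ fun y hy => ?_
      obtain ⟨k, hk⟩ := hget y
      refine (TopCat.Presheaf.germ_res_apply F.presheaf (Opens.infLELeft (V i) (V j)) y hy (sf i)).trans
        (Eq.trans ?_ (TopCat.Presheaf.germ_res_apply F.presheaf (Opens.infLERight (V i) (V j)) y hy (sf j)).symm)
      exact (hsf i y hy.1).trans ((hAeq i k y hy.1 hk).trans ((hAeq j k y hy.2 hk).symm.trans (hsf j y hy.2).symm)))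
  refine ⟨σ, fun i z hz hi => ?_⟩
  have hzA : z ∈ V i := hGA i ⟨z, ⟨hz, hi⟩, specializes_rfl⟩
  refine ((TopCat.Presheaf.germ_res_apply F.presheaf (homOfLE le_top) z hzA σ).symm.trans ?_).trans (hsf i z hzA)
  exact congrArg _ (hσ i)

/-- the unit induces bijections on stalks at points of the subspace -/
theorem stalk_unit_bijective {Z : TopCat.{u}} {i : Z ⟶ X} (hi : IsInducing i) (z : Z) :
    Function.Bijective ((TopCat.Presheaf.stalkFunctor (Type u) (i z)).map
      ((TopCat.Sheaf.pullbackPushforwardAdjunction (Type u) i).unit.app F).1) := by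
  let adj := TopCat.Sheaf.pullbackPushforwardAdjunction (Type u) i
  haveI := ShSpLib.isIso_counit hi ((TopCat.Sheaf.pullback (Type u) i).obj F)
  haveI : IsIso ((TopCat.Sheaf.pullback (Type u) i).map (adj.unit.app F)) := by
    refine (isIso_comp_right_iff _ (adj.counit.app _)).1 ?_
    erw [adj.left_triangle_components]
    infer_instance
  have := (NatIso.isIso_map_iff (ShSpLib.pullbackStalkIso i z) (adj.unit.app F)).1
    (inferInstanceAs (IsIso ((TopCat.Sheaf.forget (Type u) Z ⋙ TopCat.Presheaf.stalkFunctor (Type u) z).map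
      ((TopCat.Sheaf.pullback (Type u) i).map (adj.unit.app F)))))
  exact (isIso_iff_bijective _).1 this

theorem bijective_unit_top [SpectralSpace X] {Z : Set X} (hZ : IsClosed Z)
    (hconn : ∀ x : X, IsConnected (Z ∩ closure {x})) :
    Function.Bijective (((TopCat.Sheaf.pullbackPushforwardAdjunction (Type u)
      (TopCat.ofHom ⟨(Subtype.val : Z → X), continuous_subtype_val⟩)).unit.app F).hom.app (op ⊤)) := by
  let i : TopCat.of Z ⟶ X := TopCat.ofHom ⟨(Subtype.val : Z → X), continuous_subtype_val⟩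
  have hi : IsClosedEmbedding i := hZ.isClosedEmbedding_subtypeVal
  let η := (TopCat.Sheaf.pullbackPushforwardAdjunction (Type u) i).unit.app F
  let G := (TopCat.Sheaf.pushforward (Type u) i).obj ((TopCat.Sheaf.pullback (Type u) i).obj F)
  have hb : ∀ z ∈ Z, Function.Bijective ((TopCat.Presheaf.stalkFunctor (Type u) z).map η.1) :=
    fun z hz => stalk_unit_bijective F hi.isInducing ⟨z, hz⟩
  have hg : ∀ (U : Opens X) (y : X) (hy : y ∈ U) (a : F.1.obj (op U)),
      (TopCat.Presheaf.stalkFunctor (Type u) y).map η.1 (F.presheaf.germ U y hy a) =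
        G.presheaf.germ U y hy (η.1.app (op U) a) := fun U y hy a =>
    TopCat.Presheaf.stalkFunctor_map_germ_apply U y hy η.1 a
  refine ⟨fun a b hab => ?_, fun t => ?_⟩
  · refine TopCat.Presheaf.section_ext F ⊤ a b fun y _ => ?_
    obtain ⟨z, hz, hzy⟩ := (hconn y).nonempty
    refine germ_eq_of_specializes F a b (specializes_iff_mem_closure.2 hzy) True.intro True.intro ((hb z hz).1 ?_)
    exact (hg ⊤ z True.intro a).trans ((congrArg _ hab).trans (hg ⊤ z True.intro b).symm)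
  · have hloc : ∀ z : Z, ∃ (U : Opens X) (hU : IsCompact (U : Set X)) (hz : z.1 ∈ U) (s : F.1.obj (op U)),
        η.1.app (op U) s = G.1.map (homOfLE le_top).op t := fun z => by
      obtain ⟨c, hc⟩ := (hb z.1 z.2).2 (G.presheaf.germ ⊤ z.1 True.intro t)
      obtain ⟨V, hzV, a, rfl⟩ := F.presheaf.exists_germ_eq c
      obtain ⟨W, hzW, iV, iT, e⟩ := TopCat.Presheaf.germ_eq G.presheaf (U := V) (V := ⊤) z.1 hzV True.intro _ t ((hg V z.1 hzV a).symm.trans hc)
      obtain ⟨O, ⟨hO, hOc⟩, hzO, hOW⟩ := PrespectralSpace.isTopologicalBasis.exists_subset_of_mem_open hzW W.2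
      let U : Opens X := ⟨O, hO⟩
      let k : U ⟶ W := homOfLE hOW
      refine ⟨U, hOc, hzO, F.1.map (k ≫ iV).op a, ?_⟩
      refine (congrArg (fun q => q a) (η.1.naturality (k ≫ iV).op)).trans ?_
      refine (Functor.map_comp_apply G.1 iV.op k.op _).trans ((congrArg _ e).trans ?_)
      exact (Functor.map_comp_apply G.1 iT.op k.op t).symm
    choose U hUc hzU s hs using hloc
    obtain ⟨T, hT⟩ := hZ.isCompact.elim_finite_subcover (fun z : Z => (U z : Set X)) (fun z => (U z).2)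
      fun z hz => Set.mem_iUnion.2 ⟨⟨z, hz⟩, hzU _⟩
    have hst : ∀ (p : Z) (z : X) (hp : z ∈ U p),
        (TopCat.Presheaf.stalkFunctor (Type u) z).map η.1 (F.presheaf.germ (U p) z hp (s p)) =
          G.presheaf.germ ⊤ z True.intro t := fun p z hp =>
      (hg _ z hp _).trans ((congrArg _ (hs p)).trans (TopCat.Presheaf.germ_res_apply _ _ _ _ _))
    have hcov : ∀ z ∈ Z, ∃ p : T, z ∈ U p.1 := fun z hz => by
      obtain ⟨p, hp, hzp⟩ := Set.mem_iUnion₂.1 (hT hz)
      exact ⟨⟨p, hp⟩, hzp⟩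
    obtain ⟨σ, hσ⟩ := exists_glue F hZ hconn (fun p : T => U p.1) (fun p => hUc _) (fun p => s p.1) hcov
      fun p q z hz hp hq => (hb z hz).1 ((hst _ z hp).trans (hst _ z hq).symm)
    refine ⟨σ, TopCat.Presheaf.section_ext G ⊤ _ t fun y _ => ?_⟩
    by_cases hy : y ∈ Z
    · obtain ⟨p, hp⟩ := hcov y hy
      exact (hg ⊤ y True.intro σ).symm.trans ((congrArg _ (hσ p y hy hp)).trans (hst _ y hp))
    · obtain ⟨u₀⟩ := ShSpLib.nonempty_unique_stalk_pushforward hi
        ((TopCat.Sheaf.pullback (Type u) i).obj F) y (by rintro ⟨z, rfl⟩; exact hy z.2)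
      exact (u₀.uniq _).trans (u₀.uniq _).symm

end Groth.Agent.EtPBC63
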