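import Groth.Agent.EtPBC63.ConstrColim
import Groth.Agent.EtFound.NoethACC
import Groth.Agent.S8526
import Groth.Agent.SpecLib.Basic
import Groth.Agent.AlgSpLib.EtLocalInst

/-! colimits of constructible sheaves with restricted support -/

universe u

open CategoryTheory CategoryTheory.Limits AlgebraicGeometry Opposite Topology
open scoped ZeroObject

namespace Groth.Agent.EtPBC63

open Groth.Agent.EtFound

set_option backward.isDefEq.respectTransparency.types false

variable {X : Scheme.{u}} [CompactSpace X] [QuasiSeparatedSpace X]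

theorem closure_supp_subset {G : EtCoh.Ab X} (hG : EtPBC.IsConstructible G) {E : Set X}
    (hE : StableUnderSpecialization E) (h : EtPBC.supp G ⊆ E) : closure (EtPBC.supp G) ⊆ E := by
  have : SpectralSpace X := { }
  intro y hy
  obtain ⟨z, hz, hzy⟩ := SpecLib.CC.exists_specializes
    (SpecLib.cons_clopen (S8526.result G hG).isConstructible).1 hy
  exact hE hzy (h hz)

/-- colimit presentation with supports constrained by a predicate on closures -/
theorem exists_colimit_supp (F : EtCoh.Ab X) (Q : Set X → Prop) (hempty : Q ∅)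
    (hunion : ∀ A B, Q A → Q B → Q (A ∪ B)) (hmono : ∀ A B, A ⊆ B → Q B → Q A)
    (hgen : ∀ (Ω : Type u) [Field Ω] [IsSepClosed Ω] (ξ : Spec (CommRingCat.of Ω) ⟶ X) (c : (EtCoh.stalk ξ).obj F),
      ∃ (G : EtCoh.Ab X) (_ : EtPBC.IsConstructible G ∧ Q (closure (EtPBC.supp G))) (h : G ⟶ F)
        (d : (EtCoh.stalk ξ).obj G), (EtCoh.stalk ξ).map h d = c) :
    ∃ (J : Type (u + 1)) (_ : SmallCategory J) (_ : IsFiltered J) (D : J ⥤ EtCoh.Ab X)
      (c : Cocone D) (_ : IsColimit c), Nonempty (c.pt ≅ F) ∧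
      ∀ j, EtPBC.IsConstructible (D.obj j) ∧
        ∃ Z : Set X, IsClosed Z ∧ Q Z ∧ EtPBC.supp (D.obj j) ⊆ Z := by
  obtain ⟨J, i, i', D, c, hc, e, hD⟩ := exists_colimit F
    (fun G => EtPBC.IsConstructible G ∧ Q (closure (EtPBC.supp G))) (fun _ h => h.1)
    (fun G G' ⟨e⟩ h => ⟨isConstructible_of_iso e h.1, hmono _ _ (closure_mono (supp_subset_of_mono e.inv)) h.2⟩)
    (fun G h => ⟨isConstructible_of_isZero h, by rw [supp_eq_empty_of_isZero h, closure_empty]; exact hempty⟩)
    (fun G G' h h' => ⟨isConstructible_biprod h.1 h'.1, hmono _ _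
      ((closure_mono (supp_biprod G G')).trans_eq closure_union) (hunion _ _ h.2 h'.2)⟩)
    (fun G G' φ h h' => ⟨isConstructible_cokernel φ h h'.1,
      hmono _ _ (closure_mono (supp_subset_of_epi (cokernel.π φ))) h'.2⟩) hgen
  exact ⟨J, i, i', D, c, hc, e, fun j => ⟨(hD j).1, _, isClosed_closure, (hD j).2, subset_closure⟩⟩

omit [CompactSpace X] [QuasiSeparatedSpace X] in
theorem mem_or_notMem_nhds {η : X} (hη : ∀ U : Set X, IsOpen U → U.Nonempty → η ∈ U) {S : Set X}
    (hS : Topology.IsConstructible S) : S ∈ nhds η ∨ Sᶜ ∈ nhds η := by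
  induction hS using IsConstructible.empty_union_induction with
  | open_retrocompact U hU _ =>
    rcases U.eq_empty_or_nonempty with rfl | hne
    · exact Or.inr (by simp)
    · exact Or.inl (hU.mem_nhds (hη U hU hne))
  | union s _ t _ hs ht =>
    rcases hs with hs | hs
    · exact Or.inl (Filter.mem_of_superset hs Set.subset_union_left)
    rcases ht with ht | ht
    · exact Or.inl (Filter.mem_of_superset ht Set.subset_union_right)
    · exact Or.inr (by rw [Set.compl_union]; exact Filter.inter_mem hs ht)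
  | compl s _ hs => rwa [compl_compl, or_comm]

/-- torsion sheaves vanishing at the generic point are generated by constructible sheaves vanishing near it -/
theorem exists_gen_away [IrreducibleSpace X] {F : EtCoh.Ab X} (hF : EtCoh.IsTorsion F)
    (hη : genericPoint X ∉ EtPBC.supp F) {Ω : Type u} [Field Ω] [IsSepClosed Ω]
    (ξ : Spec (CommRingCat.of Ω) ⟶ X) (c : (EtCoh.stalk ξ).obj F) :
    ∃ (G : EtCoh.Ab X) (_ : EtPBC.IsConstructible G ∧ genericPoint X ∉ closure (EtPBC.supp G)) (h : G ⟶ F)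
      (d : (EtCoh.stalk ξ).obj G), (EtCoh.stalk ξ).map h d = c := by
  obtain ⟨V, hV, v, n, hn, h, rfl⟩ := exists_gen hF c
  haveI : AlgebraicGeometry.Etale V.hom := V.prop
  let g : V.left ⟶ X := V.hom
  haveI : QuasiCompact g := quasiCompact_of_compactSpace g
  haveI : QuasiCompact V.hom := ‹QuasiCompact g›
  let s := h.hom.app (op V) (one V n)
  let η := genericPoint X
  haveI : LocallyQuasiFinite g := AlgSpLib.locallyQuasiFinite_of_formallyUnramified g
  have hfin : (g ⁻¹' {η}).Finite := g.finite_preimage_singleton η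
  have hC : ∀ q ∈ g ⁻¹' {η}, q ∉ germSupp F V s := by
    intro q hq hqs
    obtain ⟨k, _, _, ζ, z, rfl⟩ := exists_algClosed_point V q
    refine (mem_germSupp_iff s z).1 hqs ?_
    have hz : IsZero ((EtCoh.stalk ζ).obj F) := by
      by_contra hne
      exact hη (Set.mem_of_eq_of_mem ((show _ = η from hq).symm.trans (base_of_point z)) ((mem_supp_iff ζ).2 hne))
    exact @Subsingleton.elim _ (AddCommGrpCat.subsingleton_of_isZero hz) _ _
  have hloc : ∀ q : g ⁻¹' {η}, ∃ O : Set V.left, IsOpen O ∧ IsCompact O ∧ q.1 ∈ O ∧ O ⊆ (germSupp F V s)ᶜ := fun q => by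
    obtain ⟨O, ⟨hO, hO'⟩, hqO, hOC⟩ := PrespectralSpace.isTopologicalBasis.exists_subset_of_mem_open
      (show q.1 ∈ (germSupp F V s)ᶜ from hC _ q.2) (isClosed_germSupp F V s).isOpen_compl
    exact ⟨O, hO, hO', hqO, hOC⟩
  choose O hO hO' hqO hOC using hloc
  have := hfin.to_subtype
  let O' : Set V.left := ⋃ q, O q
  have hO'c : Topology.IsConstructible O'ᶜ := by
    refine ((IsCompact.isRetrocompact ?_ (isOpen_iUnion hO)).isConstructible (isOpen_iUnion hO)).compl
    exact isCompact_iUnion hO'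
  have hmem : (g '' O'ᶜ)ᶜ ∈ nhds η := by
    rcases mem_or_notMem_nhds (η := η) (fun U hU hne => ((genericPoint_spec X).mem_open_set_iff hU).2
      (by simpa using hne)) (g.isConstructible_image hO'c) with hh | hh
    · obtain ⟨q, hq, hqη⟩ := mem_of_mem_nhds hh
      exact absurd (Set.mem_iUnion.2 ⟨⟨q, hqη⟩, hqO ⟨q, hqη⟩⟩) hq
    · exact hh
  obtain ⟨W', hW'sub, hW', hηW'⟩ := mem_nhds_iff.1 hmem
  obtain ⟨W, hW, hηW, hWW'⟩ := exists_isAffineOpen_mem_and_subset (X := X) (U := ⟨W', hW'⟩) hηW'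
  let r : restrictEtale V (g ⁻¹ᵁ W) ⟶ V := restrictEtaleHom V (g ⁻¹ᵁ W)
  haveI : CompactSpace (restrictEtale V (g ⁻¹ᵁ W)).left :=
    isCompact_iff_compactSpace.1 (g.isCompact_preimage hW.isCompact)
  haveI : QuasiSeparatedSpace (restrictEtale V (g ⁻¹ᵁ W)).left :=
    QuasiSeparatedSpace.of_isOpenEmbedding (g ⁻¹ᵁ W).ι.isOpenEmbedding
  let U' := restrictEtale V (g ⁻¹ᵁ W)
  obtain ⟨e, he⟩ := exists_hom_of_nsmul (n := n) (U := U') ((EtPBC.extZeroConst V (ZMod n)).obj.map r.op (one V n))
    (by rw [← map_nsmul, nsmul_one', map_zero])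
  have hs0 : F.obj.map r.op s = 0 := by
    refine (((isSheaf_iff_isSheaf_of_type _ _).1 ((sheafCompose X.smallEtaleTopology (forget AddCommGrpCat.{u + 1})).obj F).property).isSeparated
      _ (equalizerSieve_mem_of_germs F.obj U' _ 0 fun k _ _ ζ z => ?_)).ext fun T g hg => hg
    rw [map_zero, (Scheme.pointSmallEtale ζ).toPresheafFiber_w_apply]
    by_contra hne
    have h1 : ptOf ((Scheme.pointSmallEtale ζ).fiber.map r z) ∈ germSupp F V s := (mem_germSupp_iff s _).2 hne
    rw [ptOf_map] at h1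
    have h2 : g (r.left.base (ptOf z)) ∈ W := (ptOf z).2
    have h3 : r.left.base (ptOf z) ∈ O' := by
      by_contra hh
      exact hW'sub (hWW' h2) ⟨_, hh, rfl⟩
    obtain ⟨q, hq⟩ := Set.mem_iUnion.1 h3
    exact hOC q hq h1
  have hfac : e ≫ h = 0 := hom_ext_one _ _ (by
    change h.hom.app (op U') (e.hom.app (op U') (one U' n)) = 0
    rw [he, NatTrans.naturality_apply h.hom]
    exact hs0)
  refine ⟨cokernel e, ⟨isConstructible_cokernel e (S0133.result X U' (ZMod n)) (S0133.result X V (ZMod n)), fun hcl => ?_⟩,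
    cokernel.desc e h hfac, (EtCoh.stalk ξ).map (cokernel.π e)
      ((Scheme.pointSmallEtale ξ).toPresheafFiber V v (EtPBC.extZeroConst V (ZMod n)).obj (one V n)), ?_⟩
  · obtain ⟨x, hxW, hxs⟩ := mem_closure_iff.1 hcl W W.2 hηW
    obtain ⟨k, _, _, ζ, rfl⟩ := exists_geomPoint x
    rw [mem_supp_iff] at hxs
    refine hxs ?_
    have h0 : (EtCoh.stalk ζ).map (cokernel.π e) = 0 := stalk_map_eq_zero _ fun z => by
      have hz : ptOf z ∈ g ⁻¹ᵁ W :=
        show g.base (ptOf z) ∈ (W : Set X) from Set.mem_of_eq_of_mem (base_of_point z) hxW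
      obtain ⟨z', hz', -⟩ := exists_lift_point r z ⟨ptOf z, hz⟩ rfl
      rw [← hz', ← (Scheme.pointSmallEtale ζ).toPresheafFiber_w_apply, ← NatTrans.naturality_apply (cokernel.π e).hom,
        ← he]
      refine (congrArg _ (ConcreteCategory.congr_hom
        (congrArg (fun q : EtPBC.extZeroConst U' (ZMod n) ⟶ cokernel e => q.hom.app (op U')) (cokernel.condition e))
        (one U' n))).trans ?_
      exact map_zero _
    refine IsZero.of_epi_eq_zero ((EtCoh.stalk ζ).map (cokernel.π e)) h0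
  · refine (Functor.map_comp_apply (EtCoh.stalk ξ) (cokernel.π e) (cokernel.desc e h hfac) _).symm.trans ?_
    rw [cokernel.π_desc]
    exact stalk_map_germ h V v (one V n)

end Groth.Agent.EtPBC63
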